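import Mathlib
import Cfsg.Prelude.Def_Classical
import Cfsg.Prelude.Def_GeometricClasses
import Cfsg.Agent.Lib.Helper44.TPStmt

/-!
# S5974 / C2FIX (sub-call by helper59): statement pieces

Characteristic 2, standard plus form `Q = Cfsg.quadFormPlus d F` on `J d → F`
(`J d = Fin d ⊕ Fin d`, the same type as `OPStmt.P d`), `β = polar Q`, `x` an isometry with
`x * x = 1`.  Defs `J NDeg Stab TSub Plus` are the ones of `Cfsg.Agent.Lib.Helper44.TPStmt`.

Assembly (`C2Asm`, helper59): induction on `a`: an `x`-invariant nondegenerate plus-type `A` of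
finrank `2 a` contains an invariant nondegenerate plus-type `W` of every even finrank `n ≤ 2 a`
with `4 ∣ n` or `a` odd.  Step: split off an invariant hyperbolic plane (`⟨w, x w⟩`, `w` singular,
`β(w, x w) ≠ 0`, PLANE0; or any hyperbolic plane if `x = 1` on `A`, SINGPAIR + PLANE0) or, if
`β(u, x u) = 0` on `A` (QUADVAN), an invariant hyperbolic 4-space (BLOCK4); pass to the perp in
`A` (landed `TPStmt.SubPerp`, `Cancel`, `OrthSum`) and glue with PLUSSUM.
-/

set_option autoImplicit false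

universe u

open scoped Matrix

namespace Cfsg.Agent.Lib.Helper59.C2Stmt

open Cfsg.Agent.Lib.Helper44.TPStmt (J NDeg Stab TSub Plus)

/-- PLANE0 (any characteristic, no `x`; SMALL): singular `e`, `f` with `β(e, f) ≠ 0` span a
nondegenerate plus-type plane.  (`β(a e + b f, e) = b β(f, e)`, `β(a e + b f, f) = a β(e, f)`
(`β(e, e) = 2 Q e = 0`); linear independence the same way; `U = span {e}`.) -/
def Plane0 : Prop :=
  ∀ (F : Type u) [Field F] [Fintype F] (d : ℕ) (e f : J d → F),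
    Cfsg.quadFormPlus d F e = 0 → Cfsg.quadFormPlus d F f = 0 →
    QuadraticMap.polar (Cfsg.quadFormPlus d F) e f ≠ 0 →
    NDeg d F (Submodule.span F {e, f}) ∧ Plus d F (Submodule.span F {e, f}) ∧
      Module.finrank F ↥(Submodule.span F {e, f}) = 2

/-- PLUSSUM (any characteristic; MEDIUM): the orthogonal sum of two plus-type subspaces is of
plus type.  (`U = U_A ⊔ U_B`: `Q (u + v) = Q u + Q v + β(u, v) = 0`;
`finrank (U_A ⊔ U_B) + finrank (U_A ⊓ U_B) = finrank U_A + finrank U_B`, `U_A ⊓ U_B ≤ A ⊓ B = ⊥`,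
same for `A ⊔ B`.) -/
def PlusSum : Prop :=
  ∀ (F : Type u) [Field F] [Fintype F] (d : ℕ) (A B : Submodule F (J d → F)),
    (∀ u ∈ A, ∀ v ∈ B, QuadraticMap.polar (Cfsg.quadFormPlus d F) u v = 0) → A ⊓ B = ⊥ →
    Plus d F A → Plus d F B → Plus d F (A ⊔ B)

/-- SINGPAIR (any characteristic; SMALL): a nonzero nondegenerate plus-type subspace contains a
hyperbolic pair.  (`U ≤ A` totally singular, `2 finrank U = finrank A > 0`: `e ≠ 0` in `U`;
`f₀ ∈ A` with `β(e, f₀) ≠ 0`; `f = f₀ - (Q f₀ / β(e, f₀)) • e`: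
`Q f = Q f₀ + c² Q e - c β(f₀, e) = 0`, `β(e, f) = β(e, f₀)`.) -/
def SingPair : Prop :=
  ∀ (F : Type u) [Field F] [Fintype F] (d : ℕ) (A : Submodule F (J d → F)),
    NDeg d F A → Plus d F A → A ≠ ⊥ →
    ∃ e ∈ A, ∃ f ∈ A, Cfsg.quadFormPlus d F e = 0 ∧ Cfsg.quadFormPlus d F f = 0 ∧
      QuadraticMap.polar (Cfsg.quadFormPlus d F) e f ≠ 0

/-- QUADVAN (char 2; MEDIUM): if `g(w) := β(w, x w)` vanishes on the singular vectors of a nonzero
nondegenerate plus-type `A`, it vanishes on `A`.  (`g` is additive: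
`g(u + v) = g u + g v + β(u, x v) + β(v, x u)` and `β(v, x u) = β(x v, x x u) = β(x v, u)`, so the
cross terms cancel in char 2 (`x *ᵥ (x *ᵥ u) = u`; the isometry hypothesis gives
`Q (x *ᵥ v) = Q v`, hence `β(x a, x b) = β(a, b)`); `g(c u) = c² g u`.  `U ≤ A` totally singular,
`e ≠ 0` in `U`.  If `f ∈ A` has `β(e', f) ≠ 0` for some `e' ∈ U`: `f + c e'` is singular for
`c = Q f / β(e', f)`, so `g f = g (f + c e') + c² g e' = 0`.  Otherwise take `f₁ ∈ A` with
`β(e, f₁) ≠ 0`: `g f = g (f + f₁) + g f₁ = 0`.) -/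
def QuadVan : Prop :=
  ∀ (F : Type u) [Field F] [Fintype F] [CharP F 2] (d : ℕ)
    (x : Matrix.GeneralLinearGroup (J d) F), x ∈ Cfsg.isometryGroup F (Cfsg.quadFormPlus d F) →
    (x : Matrix (J d) (J d) F) * (x : Matrix (J d) (J d) F) = 1 →
    ∀ A : Submodule F (J d → F), NDeg d F A → Plus d F A → A ≠ ⊥ →
    (∀ w ∈ A, Cfsg.quadFormPlus d F w = 0 →
      QuadraticMap.polar (Cfsg.quadFormPlus d F) w ((x : Matrix (J d) (J d) F) *ᵥ w) = 0) →
    ∀ u ∈ A, QuadraticMap.polar (Cfsg.quadFormPlus d F) u ((x : Matrix (J d) (J d) F) *ᵥ u) = 0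

/-- BLOCK4 (char 2; LONG): `β(a, x a) = 0` on the invariant nondegenerate `A`, `x u ≠ u`: an
invariant nondegenerate plus-type 4-space in `A`.  `N a := x a + a` (`= x a - a`), `N (N a) = 0`,
`β(a, N b) = β(N a, b)` (`β(a, x b) = β(x a, x x b) = β(x a, b)`), `β(a, N a) = 0` on `A`
(`β(a, a) = 2 Q a = 0`), `β(N a, N b) = 0`, `Q (N a) = 2 Q a + β(x a, a) = 0` on `A`.
`N u ≠ 0`, `N u ∈ A`: `v ∈ A` with `β(N u, v) = 1`.  `B = span {u, v, N u, N v}`: for
`w = α u + β' v + γ N u + δ N v`: `β(w, N v) = α`, `β(w, N u) = β'`,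
`β(w, u) = β' β(v, u) + δ`, `β(w, v) = α β(u, v) + γ`: nondegenerate and the four vectors are
independent.  `U = span {N u, N v}` is totally singular of finrank 2.  Invariant: `x a = a + N a`,
`x (N a) = N a`. -/
def Block4 : Prop :=
  ∀ (F : Type u) [Field F] [Fintype F] [CharP F 2] (d : ℕ)
    (x : Matrix.GeneralLinearGroup (J d) F), x ∈ Cfsg.isometryGroup F (Cfsg.quadFormPlus d F) →
    (x : Matrix (J d) (J d) F) * (x : Matrix (J d) (J d) F) = 1 →
    ∀ A : Submodule F (J d → F), Stab (x : Matrix (J d) (J d) F) A → NDeg d F A →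
    (∀ a ∈ A, QuadraticMap.polar (Cfsg.quadFormPlus d F) a ((x : Matrix (J d) (J d) F) *ᵥ a) = 0) →
    ∀ u ∈ A, (x : Matrix (J d) (J d) F) *ᵥ u ≠ u →
    ∃ B : Submodule F (J d → F), B ≤ A ∧ Stab (x : Matrix (J d) (J d) F) B ∧ NDeg d F B ∧
      Plus d F B ∧ Module.finrank F ↥B = 4

end Cfsg.Agent.Lib.Helper59.C2Stmt
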