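import Mathlib

/-!
# S3371 (Passman: half-transitive `p`-groups of linear maps): statements of the pieces.

`ρ : G →* (V ≃ₗ[ZMod q] V)` faithful, `G` a `p`-group, all orbits on `V ∖ {0}` of equal size.

Plan of the proof.
* `p = q`: `G = 1` (`PEq`).  From now on `p ≠ q`.
* `Orb`: all stabilizers of non-zero vectors have the same order (`EqStab`).
* `ZF`: a non-trivial central element fixes no non-zero vector (`ZFpf`).
* Case B: every normal abelian subgroup of `G` is cyclic.  Then `G` is cyclic (semiregular by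
  `ZFpf`), or `p = 2` and `G = ⟨a, x⟩` with `⟨a⟩` cyclic of index `2`
  (`Helper54.CyclicNormal.cyclic_or_two`): quaternion relations (`QuatPow`: every `g ≠ 1` has a
  power equal to the central involution, so `G` is semiregular), dihedral or semidihedral
  relations (`Stab2B`: all stabilizers have order `2`; then the landed S3381 counts the
  non-central involutions as `q ^ r + 1`, `|V| = q ^ (2 r)`; `DihCnt`, `SdCnt` count them as
  `2 ^ (n+1)`, `2 ^ n`; `NT1` gives `r = 1`).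
* Case A: `G` has a normal subgroup `E ≅ C_p × C_p`.  `AOdd`: impossible for `p` odd.  `p = 2`:
  `E = {1, z, a, a z}` with `z` central (`FourEx`, `Four a z`); `ScalarOn`, `AStab`: all
  stabilizers have order `2`; S3381 again; `AInv1`, `AIdx`, `AH`: `|C_G(a)| = 2 (q ^ r - 1)` and
  there are `q ^ r - 1` involutions outside `C_G(a)`; `NT2`: `r = 1` or `(q, r) = (3, 2)`;
  `r = 1`: coordinates (`ABasis`, `Diag`, `AUnits`, `ACoord`).
-/

set_option autoImplicit false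

namespace Cfsg.Agent.Lib.Helper59.HTStmt

universe u v

section defs

variable {q : ℕ} {V : Type u} [AddCommGroup V] [Module (ZMod q) V] {G : Type v} [Group G]

/-- half-transitivity on the non-zero vectors, verbatim as in S3371 -/
def HalfT (ρ : G →* (V ≃ₗ[ZMod q] V)) : Prop :=
  ∀ v w : V, v ≠ 0 → w ≠ 0 →
    Nat.card {u : V | ∃ g : G, ρ g v = u} = Nat.card {u : V | ∃ g : G, ρ g w = u}

/-- all stabilizers of non-zero vectors have the same order -/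
def EqStab (ρ : G →* (V ≃ₗ[ZMod q] V)) : Prop :=
  ∀ v w : V, v ≠ 0 → w ≠ 0 →
    Nat.card {g : G // ρ g v = v} = Nat.card {g : G // ρ g w = w}

/-- semiregular on the non-zero vectors -/
def Semi (ρ : G →* (V ≃ₗ[ZMod q] V)) : Prop :=
  ∀ v : V, v ≠ 0 → ∀ g : G, ρ g v = v → g = 1

/-- non-trivial central elements fix no non-zero vector -/
def ZFpf (ρ : G →* (V ≃ₗ[ZMod q] V)) : Prop :=
  ∀ z : G, z ∈ Subgroup.center G → z ≠ 1 → ∀ v : V, v ≠ 0 → ρ z v ≠ v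

/-- all stabilizers of non-zero vectors have order `2` (the hypothesis of S3381) -/
def Stab2 (ρ : G →* (V ≃ₗ[ZMod q] V)) : Prop :=
  ∀ v : V, v ≠ 0 → Nat.card {g : G // ρ g v = v} = 2

/-- `{1, z, a, a z}` is a normal four-group with `z` central -/
structure Four (a z : G) : Prop where
  zc : z ∈ Subgroup.center G
  z1 : z ≠ 1
  zz : z * z = 1
  a1 : a ≠ 1
  aa : a * a = 1
  az : a ≠ z
  nrm : ∀ g : G, g * a * g⁻¹ = a ∨ g * a * g⁻¹ = a * z

end defs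

/-! ### general pieces -/

/-- [PEQ] a `q`-group acting faithfully and half-transitively on an `F_q`-space is trivial.
(It fixes a non-zero vector: `IsPGroup.exists_fixed_point_of_prime_dvd_card_of_fixed_point`,
as at the start of `Cfsg.Agent.S3380.result`; so all orbits have size `1`.) -/
def PEq : Prop :=
  ∀ (q : ℕ) [Fact q.Prime] (V : Type u) [AddCommGroup V] [Module (ZMod q) V] [Finite V]
    [Nontrivial V] (G : Type v) [Group G] [Finite G], IsPGroup q G →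
    ∀ ρ : G →* (V ≃ₗ[ZMod q] V), Function.Injective ρ → HalfT ρ → ∀ g : G, g = 1

/-- [ORB] orbit-stabilizer: equal orbit sizes give equal stabilizer orders. -/
def Orb : Prop :=
  ∀ (q : ℕ) [Fact q.Prime] (V : Type u) [AddCommGroup V] [Module (ZMod q) V] [Finite V]
    (G : Type v) [Group G] [Finite G] (ρ : G →* (V ≃ₗ[ZMod q] V)), HalfT ρ → EqStab ρ

/-- [ZF] `p ≠ q`: a non-trivial central element `z` is fixed point free.
(`o = orderOf z`, `N w = ∑_{i<o} ρ(z^i) w`.  If `ρ z v = v ≠ 0`: take `w` with `ρ z w ≠ w`,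
`u = o • w - N w ≠ 0`, `N u = 0`.  `Fix(z)` and `ker N` are `G`-invariant with zero intersection,
so `Stab(v + u) = Stab(v) ∩ Stab(u)`; equal orders force `Stab(v) = Stab(u)`; but `z` fixes `v`
and not `u`.) -/
def ZF : Prop :=
  ∀ (q : ℕ) [Fact q.Prime] (V : Type u) [AddCommGroup V] [Module (ZMod q) V] [Finite V]
    (G : Type v) [Group G] [Finite G] (p : ℕ) [Fact p.Prime], IsPGroup p G → p ≠ q →
    ∀ ρ : G →* (V ≃ₗ[ZMod q] V), Function.Injective ρ → EqStab ρ → ZFpf ρ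

/-! ### Case B: `G = ⟨a, x⟩`, `⟨a⟩` cyclic of index `2` (pure group theory unless stated) -/

/-- [QUAT] quaternion relations: `a ^ (2 ^ n)` is central and every `g ≠ 1` has a power equal
to it.  (`g ∈ ⟨a⟩`: a suitable power; `g ∉ ⟨a⟩`: `g = a ^ i * x`, `g * g = x * x = a ^ (2 ^ n)`.) -/
def QuatPow : Prop :=
  ∀ (G : Type v) [Group G] [Finite G] (a x : G) (n : ℕ), orderOf a = 2 ^ (n + 1) →
    Nat.card G = 2 ^ (n + 2) → x ∉ Subgroup.zpowers a → x * a * x⁻¹ = a⁻¹ →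
    x * x = a ^ (2 ^ n) →
    a ^ (2 ^ n) ∈ Subgroup.center G ∧ ∀ g : G, g ≠ 1 → ∃ m : ℕ, g ^ m = a ^ (2 ^ n)

/-- [STAB2B] `⟨a⟩` cyclic normal of index `2`, `x ∉ ⟨a⟩` an involution: all stabilizers have
order `2`.  (`z = a ^ (2 ^ n)` is the only involution of `⟨a⟩`, hence central, and every
non-trivial element of `⟨a⟩` has a power equal to `z`; by `ZFpf`, `Stab(v) ∩ ⟨a⟩ = 1`, so
`|Stab(v)| ≤ 2`.  `x ≠ z` fixes some `v ≠ 0`: otherwise `ρ x = -1 = ρ z`.  Then `EqStab`.) -/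
def Stab2B : Prop :=
  ∀ (q : ℕ) [Fact q.Prime] (V : Type u) [AddCommGroup V] [Module (ZMod q) V] [Finite V]
    [Nontrivial V] (G : Type v) [Group G] [Finite G] (ρ : G →* (V ≃ₗ[ZMod q] V)),
    Function.Injective ρ → EqStab ρ → ZFpf ρ →
    ∀ (a x : G) (n : ℕ), orderOf a = 2 ^ (n + 1) → Nat.card G = 2 ^ (n + 2) →
      x ∉ Subgroup.zpowers a → x * x = 1 → x * a * x⁻¹ ∈ Subgroup.zpowers a → Stab2 ρ

/-- [DIHCNT] dihedral relations: exactly `2 ^ (n + 1)` non-central involutions (the elements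
outside `⟨a⟩`; the involution `a ^ (2 ^ n)` of `⟨a⟩` is central). -/
def DihCnt : Prop :=
  ∀ (G : Type v) [Group G] [Finite G] (a x : G) (n : ℕ), 1 ≤ n → orderOf a = 2 ^ (n + 1) →
    Nat.card G = 2 ^ (n + 2) → x ∉ Subgroup.zpowers a → x * a * x⁻¹ = a⁻¹ → x * x = 1 →
    Nat.card {g : G // orderOf g = 2 ∧ g ∉ Subgroup.center G} = 2 ^ (n + 1)

/-- [SDCNT] semidihedral relations: exactly `2 ^ n` non-central involutions (the elements
`a ^ i * x` with `i` even: `(a ^ i * x) ^ 2 = a ^ (i * 2 ^ n)`). -/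
def SdCnt : Prop :=
  ∀ (G : Type v) [Group G] [Finite G] (a x : G) (n : ℕ), 2 ≤ n → orderOf a = 2 ^ (n + 1) →
    Nat.card G = 2 ^ (n + 2) → x ∉ Subgroup.zpowers a → x * a * x⁻¹ = a⁻¹ * a ^ (2 ^ n) →
    x * x = 1 →
    Nat.card {g : G // orderOf g = 2 ∧ g ∉ Subgroup.center G} = 2 ^ n

/-- [NT1] `q ^ r + 1 = 2 ^ m`, `q` an odd prime, `r ≥ 1`: `r = 1`.
(`q + 1 = 2 ^ j` divides; `q ^ 2 ≡ 1 mod 2 ^ (j+1)`; `r` odd: `q ^ r + 1 ≡ 2 ^ j mod 2 ^ (j+1)`,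
so `m ≤ j`; `r` even: `q ^ r + 1 ≡ 2 mod 4`.) -/
def NT1 : Prop :=
  ∀ q r m : ℕ, q.Prime → q ≠ 2 → 0 < r → q ^ r + 1 = 2 ^ m → r = 1

/-- [NT2] `q ^ r = 2 ^ k + 1`, `q` an odd prime, `r ≥ 1`: `r = 1` or `(q, r) = (3, 2)`. -/
def NT2 : Prop :=
  ∀ q r k : ℕ, q.Prime → q ≠ 2 → 0 < r → q ^ r = 2 ^ k + 1 → r = 1 ∨ (q = 3 ∧ r = 2)

/-! ### Case A: a normal subgroup `E ≅ C_p × C_p` -/

/-- [AODD] `p` odd: impossible.
(`Cfsg.Agent.Lib.Helper47.Imprim`: `fix`, `avg`, `ordP`, `exists_fix_ne_bot`.  `Fix(E) = 0` as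
`E ∩ Z(G) ≠ 1`.  Take `C = ⟨a⟩ ≤ E` of order `p` and `v₁ ≠ 0` fixed by `a`; `a` is not central
(`ZFpf`): `b = g a g⁻¹ ≠ a`, `b ∉ ⟨a⟩` (a `p`-element normalizing `⟨a⟩` centralizes it), `v₂ = ρ g v₁`
is fixed by `b`, `Fix(a) ∩ Fix(b) = Fix(E) = 0`.  Let `u` fix `v₁ + v₂`.  Apply `P = avg ⟨a⟩` to
`ρ u v₁ + ρ u v₂ = v₁ + v₂`: `P` is `p •` on `Fix(a)` and `0` on `Fix(c)` for `c ∈ E ∖ ⟨a⟩`.
Either `u a u⁻¹ = a` and `ρ u v₁ = v₁`, or `ρ u v₂ = v₁` and then `ρ u v₁ = v₂`, `u²` fixes `v₁`,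
`u ∈ ⟨u²⟩` (odd order), `v₁ = v₂`: impossible.  So `Stab(v₁ + v₂) ≤ Stab(v₁)`, equal orders give
equality, `a` fixes `v₁ + v₂`, hence `v₂`: contradiction.) -/
def AOdd : Prop :=
  ∀ (q : ℕ) [Fact q.Prime] (V : Type u) [AddCommGroup V] [Module (ZMod q) V] [Finite V]
    [Nontrivial V] (G : Type v) [Group G] [Finite G] (p : ℕ) [Fact p.Prime], IsPGroup p G →
    p ≠ q → p ≠ 2 → ∀ ρ : G →* (V ≃ₗ[ZMod q] V), Function.Injective ρ → EqStab ρ → ZFpf ρ →
    ∀ E : Subgroup G, E.Normal → Nat.card E = p ^ 2 → (∀ e ∈ E, e ^ p = 1) → False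

/-- [FOUR] (pure group theory) a normal four-group of a `2`-group is `{1, z, a, a z}` with `z`
central. -/
def FourEx : Prop :=
  ∀ (G : Type v) [Group G] [Finite G], IsPGroup 2 G → ∀ E : Subgroup G, E.Normal →
    Nat.card E = 4 → (∀ e ∈ E, e ^ 2 = 1) → ∃ a z : G, Four a z

/-- [SCAL] `p = 2`: an element fixing a non-zero vector of `V₁ = Fix(a)` acts on
`V₂ = {w | ρ a w = -w}` as `1` or `-1`.
(`ρ z = -1`.  `H = C_G(a)`: `u ∈ H` preserves `V₁`, `V₂`; `u ∉ H` maps `V₁` into `V₂`; so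
`D = Stab(v₁) ≤ H`.  For `0 ≠ w ∈ V₂`: `Stab(v₁ + w) ∩ H = D ∩ Stab(w)` has index `≤ 2` in
`Stab(v₁ + w)`, `|Stab(v₁ + w)| = |D|` and `a ∈ D ∖ Stab(w)`: so `D ∩ Stab(w)` has index `2` in
`D`, and `ρ u w = w` or `ρ (a * u) w = w`, i.e. `ρ u w = ± w`.  The sign does not depend on `w`:
look at `w + w'`.) -/
def ScalarOn : Prop :=
  ∀ (q : ℕ) [Fact q.Prime] (V : Type u) [AddCommGroup V] [Module (ZMod q) V] [Finite V]
    [Nontrivial V] (G : Type v) [Group G] [Finite G] (ρ : G →* (V ≃ₗ[ZMod q] V)), q ≠ 2 →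
    Function.Injective ρ → EqStab ρ → ZFpf ρ → ∀ a z : G, Four a z →
    ∀ v₁ : V, v₁ ≠ 0 → ρ a v₁ = v₁ → ∀ u : G, ρ u v₁ = v₁ →
      (∀ w : V, ρ a w = -w → ρ u w = w) ∨ (∀ w : V, ρ a w = -w → ρ u w = -w)

/-- [ASTAB] `p = 2`: all stabilizers have order `2`.
(`Four (a * z) z` holds too, with `V₁`, `V₂` exchanged.  `K₁ = {u | u fixes V₁ pointwise}`: by
`ScalarOn` such `u` is `±1` on `V₂`, so `u = 1` or `u = a`; likewise `K₂ = {1, a z}`.  For
`u ∈ Stab(v₁)`, `0 ≠ v₁ ∈ V₁` (exists: else `ρ a = -1 = ρ z`): `u` or `u * a` lies in `K₂`, so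
`u ∈ {1, a z, a, z}`, and `z`, `a z` do not fix `v₁`.  Then `EqStab`.) -/
def AStab : Prop :=
  ScalarOn.{u, v} →
  ∀ (q : ℕ) [Fact q.Prime] (V : Type u) [AddCommGroup V] [Module (ZMod q) V] [Finite V]
    [Nontrivial V] (G : Type v) [Group G] [Finite G] (ρ : G →* (V ≃ₗ[ZMod q] V)), q ≠ 2 →
    Function.Injective ρ → EqStab ρ → ZFpf ρ → ∀ a z : G, Four a z → Stab2 ρ

/-- [ANC] `a` is not central.  (Else `a` is fixed point free, `ρ a = -1 = ρ z`, `a = z`.) -/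
def ANotCentral : Prop :=
  ∀ (q : ℕ) [Fact q.Prime] (V : Type u) [AddCommGroup V] [Module (ZMod q) V] [Finite V]
    [Nontrivial V] (G : Type v) [Group G] [Finite G] (ρ : G →* (V ≃ₗ[ZMod q] V)),
    Function.Injective ρ → ZFpf ρ → ∀ a z : G, Four a z → a ∉ Subgroup.center G

/-- [AINV1] the non-central involutions are `a`, `a z` and the involutions outside `C_G(a)`.
(An involution `h ∈ C_G(a)`, `h ≠ a`: for `v₁ ∈ V₁`, `v₁ + ρ h v₁ ∈ V₁` is fixed by `h` and by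
`a`, so it is `0` (`Stab2`); so `ρ h = -1` on `V₁`; likewise `h = a z` or `ρ h = -1` on `V₂`;
hence `h ∈ {a, a z, z}`.) -/
def AInv1 : Prop :=
  ANotCentral.{u, v} →
  ∀ (q : ℕ) [Fact q.Prime] (V : Type u) [AddCommGroup V] [Module (ZMod q) V] [Finite V]
    [Nontrivial V] (G : Type v) [Group G] [Finite G] (ρ : G →* (V ≃ₗ[ZMod q] V)), q ≠ 2 →
    Function.Injective ρ → Stab2 ρ → ZFpf ρ → ∀ a z : G, Four a z →
    Nat.card {g : G // orderOf g = 2 ∧ g ∉ Subgroup.center G} =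
      Nat.card {t : G // t * t = 1 ∧ t * a * t⁻¹ = a * z} + 2

/-- [AIDX] (pure group theory) `C_G(a)` has index `2`, and at most half of the elements outside
it are involutions (`t ↦ a * t` maps involutions outside `C_G(a)` to elements of square `z`). -/
def AIdx : Prop :=
  ∀ (G : Type v) [Group G] [Finite G] (a z : G), Four a z → a ∉ Subgroup.center G →
    Nat.card G = 2 * Nat.card (Subgroup.centralizer ({a} : Set G)) ∧
    2 * Nat.card {t : G // t * t = 1 ∧ t * a * t⁻¹ = a * z} ≤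
      Nat.card (Subgroup.centralizer ({a} : Set G))

/-- [AH] `|C_G(a)|` divides `2 (q ^ r - 1)`.
(`H = C_G(a)` acts on `V₁ ∖ {0}` with stabilizers `Stab(v₁) = {1, a}` (`Stab(v₁) ≤ H` as in
`ScalarOn`), so all orbits have size `|H| / 2`; `|V₁| = |V₂|` via an element outside `H`
(`ANotCentral`), `|V| = |V₁| |V₂|`, so `|V₁| = q ^ r`.) -/
def AH : Prop :=
  ANotCentral.{u, v} →
  ∀ (q : ℕ) [Fact q.Prime] (V : Type u) [AddCommGroup V] [Module (ZMod q) V] [Finite V]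
    [Nontrivial V] (G : Type v) [Group G] [Finite G] (ρ : G →* (V ≃ₗ[ZMod q] V)), q ≠ 2 →
    Function.Injective ρ → Stab2 ρ → ZFpf ρ → ∀ a z : G, Four a z →
    ∀ r : ℕ, Nat.card V = q ^ (2 * r) →
      Nat.card (Subgroup.centralizer ({a} : Set G)) ∣ 2 * (q ^ r - 1)

/-- [ABASIS] `|V| = q ^ 2`: coordinates in which `a = diag(1, -1)` and a given involution
`t ∉ C_G(a)` is the swap.  (`e₁ ≠ 0` fixed by `a`, `e₂ = ρ t e₁`, `ρ a e₂ = -e₂`.) -/
def ABasis : Prop :=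
  ∀ (q : ℕ) [Fact q.Prime] (V : Type u) [AddCommGroup V] [Module (ZMod q) V] [Finite V]
    [Nontrivial V] (G : Type v) [Group G] [Finite G] (ρ : G →* (V ≃ₗ[ZMod q] V)), q ≠ 2 →
    Function.Injective ρ → ZFpf ρ → ∀ a z : G, Four a z → Nat.card V = q ^ 2 →
    ∀ t : G, t * t = 1 → t * a * t⁻¹ = a * z →
      ∃ e : V ≃ₗ[ZMod q] (Fin 2 → ZMod q),
        (∀ v : V, e (ρ a v) = ![e v 0, - e v 1]) ∧ (∀ v : V, e (ρ t v) = ![e v 1, e v 0])

/-- [DIAG] (linear algebra) a linear automorphism of `F_q²` commuting with `diag(1, -1)` is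
diagonal. -/
def Diag : Prop :=
  ∀ (q : ℕ) [Fact q.Prime], q ≠ 2 →
    ∀ f : (Fin 2 → ZMod q) ≃ₗ[ZMod q] (Fin 2 → ZMod q),
      (∀ v : Fin 2 → ZMod q, f ![v 0, - v 1] = ![f v 0, - f v 1]) →
      ∃ c d : (ZMod q)ˣ, ∀ v : Fin 2 → ZMod q, f v = ![(c : ZMod q) * v 0, (d : ZMod q) * v 1]

/-- [AUNITS] (abelian groups) a subgroup of `F_q^× × F_q^×` of order `2 (q - 1)` with exactly
`q - 1` elements of product `1` is `{(c, d) | c d = ± 1}`.  (`(c, d) ↦ c d` has image of order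
`2`, i.e. `{1, -1}`; then compare orders.) -/
def AUnits : Prop :=
  ∀ (q : ℕ) [Fact q.Prime], q ≠ 2 → ∀ K : Subgroup ((ZMod q)ˣ × (ZMod q)ˣ),
    Nat.card K = 2 * (q - 1) →
    Nat.card {k : (ZMod q)ˣ × (ZMod q)ˣ // k ∈ K ∧ k.1 * k.2 = 1} = q - 1 →
    ∀ x : (ZMod q)ˣ × (ZMod q)ˣ, x ∈ K ↔ (x.1 * x.2 = 1 ∨ x.1 * x.2 = -1)

/-- [ACOORD] the conclusion of S3371 in the case `q = 2 ^ m + 1`.
(Take `t` from the count, `e` from `ABasis`; for `h ∈ H = C_G(a)`, `Diag` gives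
`φ h = (c, d)`; `φ : H → F_q^× × F_q^×` is an injective homomorphism with image `K` of order
`2 (q - 1)`; `h ↦ h * t` is a bijection from `{h ∈ H | c d = 1}` onto the involutions outside `H`
(`ρ (t h t⁻¹)` has coordinates `(d, c)`); `AUnits`: `K = {c d = ± 1}`.  `g ∈ H` gives the first
form with `a = c`, `s = c d`; `g = h * t` the second with `a = d`, `s = c d`.) -/
def ACoord : Prop :=
  ABasis.{u, v} → Diag → AUnits →
  ∀ (q : ℕ) [Fact q.Prime] (V : Type u) [AddCommGroup V] [Module (ZMod q) V] [Finite V]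
    [Nontrivial V] (G : Type v) [Group G] [Finite G] (ρ : G →* (V ≃ₗ[ZMod q] V)), q ≠ 2 →
    Function.Injective ρ → ZFpf ρ → ∀ a z : G, Four a z → a ∉ Subgroup.center G →
    Nat.card V = q ^ 2 → Nat.card (Subgroup.centralizer ({a} : Set G)) = 2 * (q - 1) →
    Nat.card {t : G // t * t = 1 ∧ t * a * t⁻¹ = a * z} = q - 1 →
    ∃ e : V ≃ₗ[ZMod q] (Fin 2 → ZMod q), ∀ f : (Fin 2 → ZMod q) ≃ₗ[ZMod q] (Fin 2 → ZMod q),
      (∃ g : G, f = e.symm.trans ((ρ g).trans e)) ↔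
      ∃ a s : ZMod q, a ≠ 0 ∧ (s = 1 ∨ s = -1) ∧
        ((∀ v, f v = ![a * v 0, s * a⁻¹ * v 1]) ∨ (∀ v, f v = ![s * a⁻¹ * v 1, a * v 0]))

end Cfsg.Agent.Lib.Helper59.HTStmt
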