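import Mathlib
import Cfsg.Agent.Lib.Helper92.M11Stmt

/-!
# S0434/S0435, piece I3: the inequality for an element of order 3
-/

set_option autoImplicit false

namespace Cfsg.Agent.Lib.Helper59.M11I3

/-- `n0² + n1² + n2² - n0 n1 - n1 n2 - n0 n2 ≥ 1` when `q (n0 + n1 + n2) = 16`. -/
theorem form_ge_one (q n0 n1 n2 : ℕ) (h : q * (n0 + n1 + n2) = 16) :
    (1 : ℝ) ≤ (n0 : ℝ) ^ 2 + (n1 : ℝ) ^ 2 + (n2 : ℝ) ^ 2 - n0 * n1 - n1 * n2 - n0 * n2 := by
  have hZ : (1 : ℤ) ≤ (n0 : ℤ) ^ 2 + (n1 : ℤ) ^ 2 + (n2 : ℤ) ^ 2 - n0 * n1 - n1 * n2 - n0 * n2 := by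
    by_contra hcon
    push Not at hcon
    have h1 : ((n0 : ℤ) - n1) ^ 2 + ((n1 : ℤ) - n2) ^ 2 + ((n0 : ℤ) - n2) ^ 2 ≤ 0 := by nlinarith
    have e1 : ((n0 : ℤ) - n1) ^ 2 = 0 := by
      nlinarith [sq_nonneg ((n0 : ℤ) - n1), sq_nonneg ((n1 : ℤ) - n2), sq_nonneg ((n0 : ℤ) - n2)]
    have e2 : ((n1 : ℤ) - n2) ^ 2 = 0 := by
      nlinarith [sq_nonneg ((n0 : ℤ) - n1), sq_nonneg ((n1 : ℤ) - n2), sq_nonneg ((n0 : ℤ) - n2)]
    have f1 : (n0 : ℤ) = n1 := by
      have := pow_eq_zero_iff (two_ne_zero) |>.mp e1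
      linarith
    have f2 : (n1 : ℤ) = n2 := by
      have := pow_eq_zero_iff (two_ne_zero) |>.mp e2
      linarith
    have g1 : n0 = n1 := by exact_mod_cast f1
    have g2 : n1 = n2 := by exact_mod_cast f2
    subst g1
    subst g2
    have h3 : 3 * (q * n0) = 16 := by rw [← h]; ring
    omega
  exact_mod_cast hZ

theorem four_mul_le_sq (q : ℝ) (h : 4 ≤ q) : 4 * q ≤ q ^ 2 := by nlinarith

theorem sq_le_of_form (q S t : ℝ) (hS : 1 ≤ S) (h : t = q ^ 2 * S) : q ^ 2 ≤ t := by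
  nlinarith [sq_nonneg q]

theorem neg_le_two_mul (x : ℝ) : -(x * x + 1) ≤ 2 * x := by nlinarith [sq_nonneg (x + 1)]

theorem cs_two (u v : ℝ) : 2 * (v - u) ^ 2 ≤ 3 * (u * u + 2 * (v * v)) := by
  nlinarith [sq_nonneg (u + 2 * v)]

theorem cs_three (x y z : ℝ) : (x + y + z) ^ 2 ≤ 3 * (x * x + y * y + z * z) := by
  nlinarith [sq_nonneg (x - y), sq_nonneg (y - z), sq_nonneg (x - z)]

theorem main : Cfsg.Agent.Lib.Helper92.M11Stmt.Ineq3 := by
  intro a0 a1 a2 b c d f N q n0 n1 n2 h1 h2 h3 h4 h5 h6 h7 h8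
  have hS := form_ge_one q n0 n1 n2 h5
  have hq4 : (4 : ℝ) ≤ q := by exact_mod_cast h7
  have hN9 : (N : ℝ) ≤ 9 * q := by exact_mod_cast h8
  -- `f = -d`
  have hf : f = -d := by
    have e1 : a0 + a1 + a2 = 1 - c := by rw [h1]; ring
    rw [e1, h2] at h3
    rw [h2]
    have e2 : (55 : ℂ) * (1 + b + 2 * c + f) = 0 := by linear_combination h3
    have e3 : 1 + b + 2 * c + f = 0 := by
      rcases mul_eq_zero.mp e2 with h | h
      · norm_num at h
      · exact h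
    linear_combination e3
  -- real and imaginary parts
  have hre1 : a0.re + a1.re + a2.re = 1 - c.re := by
    have := congrArg Complex.re h1
    simp only [Complex.add_re, Complex.one_re] at this
    linarith
  have him1 : a0.im + a1.im + a2.im = - c.im := by
    have := congrArg Complex.im h1
    simp only [Complex.add_im, Complex.one_im] at this
    linarith
  have hdre : d.re = 1 + b.re + 2 * c.re := by
    rw [h2]; simp
  have hdim : d.im = b.im + 2 * c.im := by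
    rw [h2]; simp
  have hfn : Complex.normSq f = Complex.normSq d := by rw [hf, Complex.normSq_neg]
  rw [hfn] at h4
  simp only [Complex.normSq_apply] at h4 h6
  rw [hdre, hdim] at h4
  -- Cauchy–Schwarz for the `a`'s
  have cs1 := cs_three a0.re a1.re a2.re
  rw [hre1] at cs1
  have cs2 := cs_three a0.im a1.im a2.im
  rw [him1] at cs2
  -- `|b|² + 2 |d|² ≥ (2/3) |1 + 2c|²`
  have cs3 := cs_two b.re (1 + b.re + 2 * c.re)
  have cs4 := cs_two b.im (b.im + 2 * c.im)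
  have e3 : (1 + b.re + 2 * c.re - b.re) ^ 2 = 1 + 4 * c.re + 4 * (c.re * c.re) := by ring
  have e4 : (b.im + 2 * c.im - b.im) ^ 2 = 4 * (c.im * c.im) := by ring
  have e1 : (1 - c.re) ^ 2 = 1 - 2 * c.re + c.re * c.re := by ring
  have e2 : (-c.im) ^ 2 = c.im * c.im := by ring
  rw [e3] at cs3
  rw [e4] at cs4
  rw [e1] at cs1
  rw [e2] at cs2
  -- `|c|² ≥ q²`
  have hc : (q : ℝ) ^ 2 ≤ c.re * c.re + c.im * c.im := sq_le_of_form _ _ _ hS h6
  have hcr : -(c.re * c.re + 1) ≤ 2 * c.re := neg_le_two_mul c.re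
  have hci : 0 ≤ c.im * c.im := mul_self_nonneg _
  have hqq : 4 * (q : ℝ) ≤ (q : ℝ) ^ 2 := four_mul_le_sq _ hq4
  -- the lower bound `N ≥ 2 + 2 Re c + 5 |c|²`
  have hlow : 2 + 2 * c.re + 5 * (c.re * c.re + c.im * c.im) ≤ (N : ℝ) := by
    rw [h4]
    linarith
  linarith

end Cfsg.Agent.Lib.Helper59.M11I3
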