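import Mathlib
import Cfsg.Agent.Lib.Helper25.BSWSpec
import Cfsg.Agent.Lib.CT.Wedderburn
import Cfsg.Agent.Lib.CT.Ops
import Cfsg.Agent.Lib.Helper80.Integrality

/-! Shared tools for the counting pieces `CountM`, `CountP` of S3282. -/

set_option autoImplicit false

namespace Cfsg.Agent.Lib.Helper59.BSWCountCore

open Cfsg Cfsg.Agent.Lib.CT.Wedderburn
open scoped ComplexConjugate

universe u

/-- A rational character value is an integer. -/
theorem int_of_rat_char {G : Type u} [Group G] [Finite G] {Λ : G → ℂ} (hΛ : IsCharacter G Λ)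
    (z : G) (r : ℚ) (h : Λ z = (r : ℂ)) : ∃ n : ℤ, Λ z = (n : ℂ) := by
  have h0 : IsIntegral ℤ (Λ z) :=
    Cfsg.Agent.Lib.Helper80.Integrality.isIntegral_of_isCharacter hΛ z
  rw [h] at h0
  have h1 : IsIntegral ℤ r := by
    have h2 : (r : ℂ) = algebraMap ℚ ℂ r := rfl
    rw [h2] at h0
    exact (isIntegral_algebraMap_iff (algebraMap ℚ ℂ).injective).mp h0
  obtain ⟨n, hn⟩ := IsIntegrallyClosed.isIntegral_iff.mp h1
  refine ⟨n, ?_⟩
  rw [h, ← hn]
  simp

/-- Splitting a sum over the group into `U`, the identity and the rest. -/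
theorem sum_split3 {G : Type u} [Fintype G] [DecidableEq G] [One G] (U : Set G)
    [DecidablePred (· ∈ U)] (h1 : (1 : G) ∉ U) (F : G → ℤ) :
    ∑ g, F g = ∑ g ∈ Finset.univ.filter (fun g => g ∈ U), F g + F 1
      + ∑ g ∈ Finset.univ.filter (fun g => g ∉ U ∧ g ≠ 1), F g := by
  rw [← Finset.sum_filter_add_sum_filter_not Finset.univ (fun g => g ∈ U) F, add_assoc]
  congr 1
  rw [← Finset.add_sum_erase (Finset.univ.filter (fun g => g ∉ U)) F
    (Finset.mem_filter.mpr ⟨Finset.mem_univ _, h1⟩)]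
  congr 1
  apply Finset.sum_congr _ (fun _ _ => rfl)
  ext g
  simp [and_comm]

/-- Orthogonality relations for an integer valued nonprincipal irreducible character. -/
theorem core {G : Type u} [Group G] [Fintype G] (Λ : G → ℂ) (hΛ : IsIrrCharacter G Λ)
    (c : G → ℤ) (hc : ∀ g, Λ g = (c g : ℂ)) (hc1 : c 1 ≠ 1) :
    ∑ g, c g = 0 ∧ ∑ g, c g ^ 2 = (Nat.card G : ℤ) := by
  have hGne : (Nat.card G : ℂ) ≠ 0 := Nat.cast_ne_zero.mpr Nat.card_pos.ne'
  have hconjc : ∀ g, conj (Λ g) = Λ g := by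
    intro g
    rw [hc g]
    exact map_intCast (starRingEnd ℂ) (c g)
  constructor
  · have h1 := irr_orthonormal (⟨Λ, hΛ⟩ : IrrCharacter G)
      ⟨fun _ => (1 : ℂ), Cfsg.Agent.Lib.CT.Ops.isIrrCharacter_one⟩
    have hne : (⟨Λ, hΛ⟩ : IrrCharacter G)
        ≠ ⟨fun _ => (1 : ℂ), Cfsg.Agent.Lib.CT.Ops.isIrrCharacter_one⟩ := by
      intro h
      have h2 := congrFun (congrArg Subtype.val h) 1
      simp only at h2
      rw [hc 1] at h2
      apply hc1
      exact_mod_cast h2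
    rw [if_neg hne] at h1
    unfold classInner at h1
    have h2 : ∑ g : G, Λ g * conj ((fun _ : G => (1 : ℂ)) g) = 0 := by
      rcases mul_eq_zero.mp h1 with h | h
      · exact absurd (inv_eq_zero.mp h) hGne
      · exact h
    have h3 : ((∑ g, c g : ℤ) : ℂ) = 0 := by
      rw [← h2]
      push_cast
      apply Finset.sum_congr rfl
      intro g _
      rw [map_one, mul_one, hc g]
    exact_mod_cast h3
  · have h1 := irr_orthonormal (⟨Λ, hΛ⟩ : IrrCharacter G) ⟨Λ, hΛ⟩
    rw [if_pos rfl] at h1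
    unfold classInner at h1
    have h2 : ∑ g : G, Λ g * conj (Λ g) = (Nat.card G : ℂ) := by
      have h3 : (Nat.card G : ℂ) * ((Nat.card G : ℂ)⁻¹ *
          ∑ g : G, Λ g * conj (Λ g)) = (Nat.card G : ℂ) * 1 := by
        rw [h1]
      rw [← mul_assoc, mul_inv_cancel₀ hGne, one_mul, mul_one] at h3
      exact h3
    have h3 : ((∑ g, c g ^ 2 : ℤ) : ℂ) = ((Nat.card G : ℤ) : ℂ) := by
      push_cast
      rw [← h2]
      apply Finset.sum_congr rfl
      intro g _
      rw [hconjc g, hc g]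
      ring
    exact_mod_cast h3

theorem sq_add_nonneg (x : ℤ) : 0 ≤ x ^ 2 + x := by
  rcases le_or_gt 0 x with h | h
  · positivity
  · have h1 : x ≤ -1 := by omega
    nlinarith

theorem sq_add_eq_zero {x : ℤ} (h : x ^ 2 + x = 0) : x = 0 ∨ x = -1 := by
  have h1 : x * (x + 1) = 0 := by rw [← h]; ring
  rcases mul_eq_zero.mp h1 with h2 | h2
  · exact Or.inl h2
  · exact Or.inr (by omega)

theorem sq_sub_nonneg (x : ℤ) : 0 ≤ x ^ 2 - x := by
  rcases le_or_gt x 0 with h | h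
  · nlinarith
  · have h1 : 1 ≤ x := by omega
    nlinarith

theorem sq_sub_eq_zero {x : ℤ} (h : x ^ 2 - x = 0) : x = 0 ∨ x = 1 := by
  have h1 : x * (x - 1) = 0 := by rw [← h]; ring
  rcases mul_eq_zero.mp h1 with h2 | h2
  · exact Or.inl h2
  · exact Or.inr (by omega)

end Cfsg.Agent.Lib.Helper59.BSWCountCore
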