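import Mathlib
import Cfsg.Agent.Lib.Helper59.BSWCountCore

/-! Piece `CountP` of S3282: counting with the character `Λ`, case `q = 2k-1`. -/

set_option autoImplicit false

namespace Cfsg.Agent.Lib.Helper59.BSWCountP

open Cfsg Cfsg.Agent.Lib.CT.Wedderburn Cfsg.Agent.Lib.Helper59.BSWCountCore
open scoped ComplexConjugate

universe u

theorem main : Cfsg.Agent.Lib.Helper25.BSWSpec.CountP.{u} := by
  intro G _ _ Λ U a k hk hΛ h1U hUcard hGcard hΛ1 hΛU ha
  classical
  haveI := Fintype.ofFinite G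
  have hΛc := isCharacter_of_irr hΛ
  have hk0 : (k : ℂ) - 1 ≠ 0 := by
    have h1 : ((k - 1 : ℕ) : ℂ) ≠ 0 := by exact_mod_cast (show k - 1 ≠ 0 by omega)
    rw [Nat.cast_sub (show 1 ≤ k by omega)] at h1
    simpa using h1
  -- integrality outside `U ∪ {1}`
  have hint : ∀ z : G, z ∉ U → z ≠ 1 → ∃ n : ℤ, Λ z = (n : ℂ) := by
    intro z hzU hz1
    have h2 := ha z hzU hz1
    have h3 : conj (Λ z) = (((a z : ℚ) / ((k : ℚ) - 1) : ℚ) : ℂ) := by
      push_cast
      field_simp
      rw [h2]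
      ring
    have h4 : Λ z = (((a z : ℚ) / ((k : ℚ) - 1) : ℚ) : ℂ) := by
      have h5 := congrArg conj h3
      rw [Complex.conj_conj] at h5
      rw [h5]
      exact map_ratCast (starRingEnd ℂ) _
    exact int_of_rat_char hΛc z _ h4
  choose! lam hlam using hint
  obtain ⟨c, hcdef⟩ : ∃ c : G → ℤ,
      ∀ g, c g = if g ∈ U then -1 else if g = 1 then 2 * (k : ℤ) - 1 else lam g :=
    ⟨_, fun _ => rfl⟩
  have hcU : ∀ g, g ∈ U → c g = -1 := fun g hg => by rw [hcdef, if_pos hg]
  have hc1 : c 1 = 2 * (k : ℤ) - 1 := by rw [hcdef, if_neg h1U, if_pos rfl]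
  have hcW : ∀ g, g ∉ U → g ≠ 1 → c g = lam g := fun g hg hg1 => by
    rw [hcdef, if_neg hg, if_neg hg1]
  have hc : ∀ g, Λ g = (c g : ℂ) := by
    intro g
    by_cases hgU : g ∈ U
    · rw [hcU g hgU, hΛU g hgU]
      simp
    · by_cases hg1 : g = 1
      · subst hg1
        rw [hc1, hΛ1]
        push_cast
        ring
      · rw [hcW g hgU hg1, hlam g hgU hg1]
  obtain ⟨hsum1, hsum2⟩ := core Λ hΛ c hc (by rw [hc1]; omega)
  -- the cardinality of `U`
  have hUf : Nat.card U = (Finset.univ.filter (fun g : G => g ∈ U)).card := by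
    rw [← Nat.card_eq_finsetCard]
    exact Nat.card_congr (Equiv.subtypeEquivRight (fun g => by simp))
  have hUval : Nat.card U = (k - 1) * (2 * k - 1) * (k - 1) := by
    have h1 : Nat.card U * (2 * k) = ((k - 1) * (2 * k - 1) * (k - 1)) * (2 * k) := by
      rw [hUcard, hGcard]
      ring
    exact Nat.eq_of_mul_eq_mul_right (by omega) h1
  have hUZ : ((Finset.univ.filter (fun g : G => g ∈ U)).card : ℤ)
      = ((k : ℤ) - 1) * (2 * k - 1) * (k - 1) := by
    rw [← hUf, hUval]
    push_cast [Nat.cast_sub (show 1 ≤ k by omega), Nat.cast_sub (show 1 ≤ 2 * k by omega)]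
    ring
  have hGZ : (Nat.card G : ℤ) = 2 * (k : ℤ) * (k - 1) * (2 * k - 1) := by
    rw [hGcard]
    push_cast [Nat.cast_sub (show 1 ≤ k by omega), Nat.cast_sub (show 1 ≤ 2 * k by omega)]
    ring
  -- the values on the rest are `0` or `1`
  have hF1 := sum_split3 U h1U (fun g => c g ^ 2 - c g)
  have hF1tot : ∑ g, (c g ^ 2 - c g) = (Nat.card G : ℤ) := by
    rw [Finset.sum_sub_distrib, hsum1, hsum2, sub_zero]
  have hF1U : ∑ g ∈ Finset.univ.filter (fun g : G => g ∈ U), (c g ^ 2 - c g)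
      = 2 * ((Finset.univ.filter (fun g : G => g ∈ U)).card : ℤ) := by
    rw [Finset.sum_congr rfl (fun g hg => by
      rw [hcU g (Finset.mem_filter.mp hg).2]), Finset.sum_const]
    simp
    ring
  have hW0 : ∑ g ∈ Finset.univ.filter (fun g : G => g ∉ U ∧ g ≠ 1), (c g ^ 2 - c g) = 0 := by
    rw [hF1tot, hF1U, hc1, hUZ, hGZ] at hF1
    linarith
  have hW := (Finset.sum_eq_zero_iff_of_nonneg (fun g _ => sq_sub_nonneg (c g))).mp hW0
  have hlam01 : ∀ z : G, z ∉ U → z ≠ 1 → lam z = 0 ∨ lam z = 1 := by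
    intro z hzU hz1
    have h1 := hW z (Finset.mem_filter.mpr ⟨Finset.mem_univ _, hzU, hz1⟩)
    rw [hcW z hzU hz1] at h1
    exact sq_sub_eq_zero h1
  have haZ : ∀ z : G, z ∉ U → z ≠ 1 → (a z : ℤ) = ((k : ℤ) - 1) * lam z := by
    intro z hzU hz1
    have h2 := ha z hzU hz1
    have h3 : conj (Λ z) = (lam z : ℂ) := by
      rw [hlam z hzU hz1]
      exact map_intCast (starRingEnd ℂ) (lam z)
    rw [h3] at h2
    have h4 : ((a z : ℤ) : ℂ) = ((((k : ℤ) - 1) * lam z : ℤ) : ℂ) := by
      push_cast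
      rw [h2]
    exact_mod_cast h4
  have hiff : ∀ z : G, z ∉ U → z ≠ 1 → (a z = 0 ↔ lam z = 0) := by
    intro z hzU hz1
    have h1 := haZ z hzU hz1
    constructor
    · intro h
      rcases hlam01 z hzU hz1 with h2 | h2
      · exact h2
      · rw [h2, h] at h1
        push_cast at h1
        omega
    · intro h
      rw [h] at h1
      simpa using h1
  refine ⟨?_, ?_, ?_⟩
  · intro z hzU hz1
    have h1 := haZ z hzU hz1
    rcases hlam01 z hzU hz1 with h2 | h2
    · left
      rw [h2] at h1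
      simpa using h1
    · right
      rw [h2] at h1
      omega
  · -- the count
    have hF2 := sum_split3 U h1U (fun g => 1 - c g)
    have hF2tot : ∑ g : G, (1 - c g) = (Nat.card G : ℤ) := by
      rw [Finset.sum_sub_distrib, hsum1, sub_zero, Finset.sum_const, Nat.card_eq_fintype_card]
      simp
    have hF2U : ∑ g ∈ Finset.univ.filter (fun g : G => g ∈ U), (1 - c g)
        = 2 * ((Finset.univ.filter (fun g : G => g ∈ U)).card : ℤ) := by
      rw [Finset.sum_congr rfl (fun g hg => by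
        rw [hcU g (Finset.mem_filter.mp hg).2]), Finset.sum_const]
      simp
      ring
    have hW2 : ∑ g ∈ Finset.univ.filter (fun g : G => g ∉ U ∧ g ≠ 1), (1 - c g)
        = 4 * (k : ℤ) ^ 2 - 4 * k := by
      rw [hF2tot, hF2U, hc1, hUZ, hGZ] at hF2
      linarith
    have hcount : Nat.card {z : G // z ∉ U ∧ z ≠ 1 ∧ a z = 0}
        = ((Finset.univ.filter (fun g : G => g ∉ U ∧ g ≠ 1)).filter
            (fun z => a z = 0)).card := by
      rw [← Nat.card_eq_finsetCard]
      exact Nat.card_congr (Equiv.subtypeEquivRight (fun g => by simp [and_assoc]))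
    have hcard : (((Finset.univ.filter (fun g : G => g ∉ U ∧ g ≠ 1)).filter
        (fun z => a z = 0)).card : ℤ) = 4 * (k : ℤ) ^ 2 - 4 * k := by
      rw [← hW2, Finset.card_filter]
      push_cast
      apply Finset.sum_congr rfl
      intro z hz
      obtain ⟨-, hzU, hz1⟩ := Finset.mem_filter.mp hz
      rw [hcW z hzU hz1]
      by_cases h : a z = 0
      · rw [if_pos h, (hiff z hzU hz1).mp h]
        simp
      · rw [if_neg h]
        rcases hlam01 z hzU hz1 with h2 | h2
        · exact absurd ((hiff z hzU hz1).mpr h2) h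
        · rw [h2]
          simp
    rw [hcount]
    have h5 : (((Finset.univ.filter (fun g : G => g ∉ U ∧ g ≠ 1)).filter
        (fun z => a z = 0)).card : ℤ) = (((2 * k - 1) ^ 2 - 1 : ℕ) : ℤ) := by
      rw [hcard]
      have h6 : 1 ≤ (2 * k - 1) ^ 2 := Nat.one_le_pow _ _ (by omega)
      push_cast [Nat.cast_sub h6, Nat.cast_sub (show 1 ≤ 2 * k by omega)]
      ring
    exact_mod_cast h5
  · -- existence
    have hF3 := sum_split3 U h1U c
    have hF3U : ∑ g ∈ Finset.univ.filter (fun g : G => g ∈ U), c g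
        = - ((Finset.univ.filter (fun g : G => g ∈ U)).card : ℤ) := by
      rw [Finset.sum_congr rfl (fun g hg => hcU g (Finset.mem_filter.mp hg).2),
        Finset.sum_const]
      simp
    have hW3 : ∑ g ∈ Finset.univ.filter (fun g : G => g ∉ U ∧ g ≠ 1), c g
        = ((k : ℤ) - 1) * (2 * k - 1) * (k - 1) - (2 * k - 1) := by
      rw [hsum1, hF3U, hc1, hUZ] at hF3
      linarith
    have hpos : (0 : ℤ) < ((k : ℤ) - 1) * (2 * k - 1) * (k - 1) - (2 * k - 1) := by
      have h4 : (4 : ℤ) ≤ k := by exact_mod_cast hk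
      nlinarith
    have hne : ∑ g ∈ Finset.univ.filter (fun g : G => g ∉ U ∧ g ≠ 1), c g ≠ 0 := by
      rw [hW3]
      exact hpos.ne'
    obtain ⟨z, hz, hcz⟩ := Finset.exists_ne_zero_of_sum_ne_zero hne
    obtain ⟨-, hzU, hz1⟩ := Finset.mem_filter.mp hz
    refine ⟨z, hzU, hz1, ?_⟩
    rw [hcW z hzU hz1] at hcz
    have h1 := haZ z hzU hz1
    rcases hlam01 z hzU hz1 with h2 | h2
    · exact absurd h2 hcz
    · rw [h2] at h1
      omega

end Cfsg.Agent.Lib.Helper59.BSWCountP
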