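import Mathlib
import Cfsg.Agent.Lib.Helper40.HPStmt
import Cfsg.Agent.Lib.Helper59.C2Stmt
import Cfsg.Agent.Lib.Helper44.NegPairs

/-!
# S5974 / C2FIX: assembly of the sub-call pieces

`thm_of`: from the landed `TPStmt.Top`, `SubPerp`, `Cancel`, `OrthSum` and the pieces of
`C2Stmt` (PLANE0, PLUSSUM, SINGPAIR, QUADVAN, BLOCK4) to `HPStmt.C2Fix`.
-/

set_option autoImplicit false

universe u

open scoped Matrix

namespace Cfsg.Agent.Lib.Helper59.C2Asm

open Module
open Cfsg.Agent.Lib.Helper44.TPStmt (J NDeg Stab TSub Plus Top SubPerp Cancel OrthSum)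
open Cfsg.Agent.Lib.Helper59.C2Stmt

section
set_option linter.unusedSectionVars false
variable {F : Type u} [Field F] [Fintype F] {d : ℕ}

theorem stab_sup (X : Matrix (J d) (J d) F) (A B : Submodule F (J d → F))
    (hA : Stab X A) (hB : Stab X B) : Stab X (A ⊔ B) := by
  unfold Stab at hA hB ⊢
  rw [Submodule.map_sup]
  exact sup_le_sup hA hB

theorem stab_bot (X : Matrix (J d) (J d) F) : Stab X (⊥ : Submodule F (J d → F)) := by
  unfold Stab
  rw [Submodule.map_bot]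

theorem ndeg_bot : NDeg d F (⊥ : Submodule F (J d → F)) := by
  intro w hw hw0
  exact absurd ((Submodule.mem_bot F).mp hw) hw0

theorem plus_bot : Plus d F (⊥ : Submodule F (J d → F)) := by
  refine ⟨⊥, le_refl _, ?_, by simp⟩
  intro w hw
  rw [(Submodule.mem_bot F).mp hw]
  exact map_zero (Cfsg.Agent.Lib.Helper44.NegPairs.plusQ d F)

/-- gluing two orthogonal blocks -/
theorem glue (hOS : OrthSum.{u}) (hPS : PlusSum.{u}) (X : Matrix (J d) (J d) F)
    (B W : Submodule F (J d → F)) (hBs : Stab X B) (hBn : NDeg d F B) (hBp : Plus d F B)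
    (hWs : Stab X W) (hWn : NDeg d F W) (hWp : Plus d F W)
    (horth : ∀ u ∈ B, ∀ v ∈ W, QuadraticMap.polar (Cfsg.quadFormPlus d F) u v = 0) :
    Stab X (B ⊔ W) ∧ NDeg d F (B ⊔ W) ∧ Plus d F (B ⊔ W) ∧
      finrank F ↥(B ⊔ W) = finrank F ↥B + finrank F ↥W := by
  obtain ⟨h1, h2, h3⟩ := hOS F d B W hBn hWn horth
  exact ⟨stab_sup X B W hBs hWs, h1, hPS F d B W horth h2 hBp hWp, h3⟩

/-- the perp of a block inside `A` -/
theorem perp_in (hSP : SubPerp.{u}) (hC : Cancel.{u}) (hOS : OrthSum.{u})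
    (x : Matrix.GeneralLinearGroup (J d) F)
    (hx : x ∈ Cfsg.isometryGroup F (Cfsg.quadFormPlus d F))
    (A B : Submodule F (J d → F)) (hAs : Stab (x : Matrix (J d) (J d) F) A) (hAn : NDeg d F A)
    (hAp : Plus d F A) (hBA : B ≤ A) (hBs : Stab (x : Matrix (J d) (J d) F) B)
    (hBn : NDeg d F B) (hBp : Plus d F B) :
    ∃ A' : Submodule F (J d → F), A' ≤ A ∧ Stab (x : Matrix (J d) (J d) F) A' ∧ NDeg d F A' ∧
      Plus d F A' ∧ finrank F ↥B + finrank F ↥A' = finrank F ↥A ∧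
      ∀ u ∈ B, ∀ v ∈ A', QuadraticMap.polar (Cfsg.quadFormPlus d F) u v = 0 := by
  obtain ⟨A', hA'A, hA'n, -, horth, hdim, hstab⟩ := hSP F d A B hAn hBn hBA
  obtain ⟨-, -, h3⟩ := hOS F d B A' hBn hA'n horth
  have hsup : B ⊔ A' = A := by
    apply Submodule.eq_of_le_of_finrank_eq (sup_le hBA hA'A)
    rw [h3, hdim]
  have hA'p : Plus d F A' := hC F d B A' hBn hA'n horth (by rw [hsup]; exact hAp) hBp
  exact ⟨A', hA'A, hstab x hx hAs hBs, hA'n, hA'p, hdim, horth⟩

end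

theorem claim (hSP : SubPerp.{u}) (hC : Cancel.{u}) (hOS : OrthSum.{u}) (hP0 : Plane0.{u})
    (hPS : PlusSum.{u}) (hSg : SingPair.{u}) (hQV : QuadVan.{u}) (hB4 : Block4.{u})
    (F : Type u) [Field F] [Fintype F] [CharP F 2] (d : ℕ)
    (x : Matrix.GeneralLinearGroup (J d) F)
    (hx : x ∈ Cfsg.isometryGroup F (Cfsg.quadFormPlus d F))
    (hxx : (x : Matrix (J d) (J d) F) * (x : Matrix (J d) (J d) F) = 1) :
    ∀ a : ℕ, ∀ A : Submodule F (J d → F), Stab (x : Matrix (J d) (J d) F) A → NDeg d F A →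
      Plus d F A → finrank F ↥A = 2 * a →
      ∀ n : ℕ, Even n → n ≤ 2 * a → (n % 4 = 0 ∨ Odd a) →
      ∃ W : Submodule F (J d → F), W ≤ A ∧ Stab (x : Matrix (J d) (J d) F) W ∧ NDeg d F W ∧
        Plus d F W ∧ finrank F ↥W = n := by
  intro a
  induction a using Nat.strong_induction_on with
  | _ a ih =>
  intro A hAs hAn hAp hAdim n hne hn hcond
  by_cases hn0 : n = 0
  · exact ⟨⊥, bot_le, stab_bot _, ndeg_bot, plus_bot, by rw [hn0]; simp⟩
  by_cases hnA : n = 2 * a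
  · exact ⟨A, le_refl _, hAs, hAn, hAp, by rw [hAdim, hnA]⟩
  obtain ⟨n2, hn2⟩ := hne
  have hApos : A ≠ ⊥ := by
    intro h
    rw [h] at hAdim
    simp at hAdim
    omega
  have hxv : ∀ v : J d → F, (x : Matrix (J d) (J d) F) *ᵥ ((x : Matrix (J d) (J d) F) *ᵥ v) = v := by
    intro v
    rw [Matrix.mulVec_mulVec, hxx, Matrix.one_mulVec]
  have hxA : ∀ v ∈ A, (x : Matrix (J d) (J d) F) *ᵥ v ∈ A := by
    intro v hv
    have := hAs (Submodule.mem_map_of_mem hv)
    rwa [Matrix.toLin'_apply] at this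
  -- the two kinds of steps
  have plane_step : ∀ Pl : Submodule F (J d → F), Pl ≤ A → Stab (x : Matrix (J d) (J d) F) Pl →
      NDeg d F Pl → Plus d F Pl → finrank F ↥Pl = 2 →
      ∃ W : Submodule F (J d → F), W ≤ A ∧ Stab (x : Matrix (J d) (J d) F) W ∧ NDeg d F W ∧
        Plus d F W ∧ finrank F ↥W = n := by
    intro Pl hPlA hPls hPln hPlp hPldim
    obtain ⟨A', hA'A, hA's, hA'n, hA'p, hdim, horth⟩ :=
      perp_in hSP hC hOS x hx A Pl hAs hAn hAp hPlA hPls hPln hPlp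
    have hA'dim : finrank F ↥A' = 2 * (a - 1) := by omega
    by_cases h4 : n % 4 = 0
    · obtain ⟨W, hWA', hWs, hWn, hWp, hWdim⟩ := ih (a - 1) (by omega) A' hA's hA'n hA'p hA'dim n
        ⟨n2, hn2⟩ (by omega) (Or.inl h4)
      exact ⟨W, hWA'.trans hA'A, hWs, hWn, hWp, hWdim⟩
    · obtain ⟨W, hWA', hWs, hWn, hWp, hWdim⟩ := ih (a - 1) (by omega) A' hA's hA'n hA'p hA'dim
        (n - 2) ⟨n2 - 1, by omega⟩ (by omega) (Or.inl (by omega))
      obtain ⟨g1, g2, g3, g4⟩ := glue hOS hPS (x : Matrix (J d) (J d) F) Pl W hPls hPln hPlp hWs hWn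
        hWp (fun u hu v hv => horth u hu v (hWA' hv))
      exact ⟨Pl ⊔ W, sup_le hPlA (hWA'.trans hA'A), g1, g2, g3, by rw [g4, hPldim, hWdim]; omega⟩
  have block_step : ∀ B : Submodule F (J d → F), B ≤ A → Stab (x : Matrix (J d) (J d) F) B →
      NDeg d F B → Plus d F B → finrank F ↥B = 4 →
      ∃ W : Submodule F (J d → F), W ≤ A ∧ Stab (x : Matrix (J d) (J d) F) W ∧ NDeg d F W ∧
        Plus d F W ∧ finrank F ↥W = n := by
    intro B hBA hBs hBn hBp hBdim
    obtain ⟨A', hA'A, hA's, hA'n, hA'p, hdim, horth⟩ :=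
      perp_in hSP hC hOS x hx A B hAs hAn hAp hBA hBs hBn hBp
    have hA'dim : finrank F ↥A' = 2 * (a - 2) := by omega
    by_cases h4 : n % 4 = 0
    · obtain ⟨W, hWA', hWs, hWn, hWp, hWdim⟩ := ih (a - 2) (by omega) A' hA's hA'n hA'p hA'dim
        (n - 4) ⟨n2 - 2, by omega⟩ (by omega) (Or.inl (by omega))
      obtain ⟨g1, g2, g3, g4⟩ := glue hOS hPS (x : Matrix (J d) (J d) F) B W hBs hBn hBp hWs hWn
        hWp (fun u hu v hv => horth u hu v (hWA' hv))
      exact ⟨B ⊔ W, sup_le hBA (hWA'.trans hA'A), g1, g2, g3, by rw [g4, hBdim, hWdim]; omega⟩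
    · have hodd : Odd a := by
        rcases hcond with h | h
        · exact absurd h h4
        · exact h
      obtain ⟨k, hk⟩ := hodd
      obtain ⟨W, hWA', hWs, hWn, hWp, hWdim⟩ := ih (a - 2) (by omega) A' hA's hA'n hA'p hA'dim n
        ⟨n2, hn2⟩ (by omega) (Or.inr ⟨k - 1, by omega⟩)
      exact ⟨W, hWA'.trans hA'A, hWs, hWn, hWp, hWdim⟩
  by_cases hi : ∃ w ∈ A, Cfsg.quadFormPlus d F w = 0 ∧
      QuadraticMap.polar (Cfsg.quadFormPlus d F) w ((x : Matrix (J d) (J d) F) *ᵥ w) ≠ 0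
  · obtain ⟨w, hwA, hw0, hwx⟩ := hi
    have hQx : Cfsg.quadFormPlus d F ((x : Matrix (J d) (J d) F) *ᵥ w) = 0 := by
      rw [← hw0]
      exact hx w w
    obtain ⟨p1, p2, p3⟩ := hP0 F d w ((x : Matrix (J d) (J d) F) *ᵥ w) hw0 hQx hwx
    refine plane_step _ ?_ ?_ p1 p2 p3
    · rw [Submodule.span_le]
      intro v hv
      rcases hv with rfl | hv
      · exact hwA
      · rw [Set.mem_singleton_iff.mp hv]
        exact hxA w hwA
    · unfold Stab
      rw [Submodule.map_le_iff_le_comap, Submodule.span_le]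
      intro v hv
      rw [SetLike.mem_coe, Submodule.mem_comap, Matrix.toLin'_apply]
      rcases hv with rfl | hv
      · exact Submodule.subset_span (by simp)
      · rw [Set.mem_singleton_iff.mp hv, hxv]
        exact Submodule.subset_span (by simp)
  · push Not at hi
    have hg := hQV F d x hx hxx A hAn hAp hApos hi
    by_cases hfix : ∀ u ∈ A, (x : Matrix (J d) (J d) F) *ᵥ u = u
    · obtain ⟨e, heA, f, hfA, he0, hf0, hef⟩ := hSg F d A hAn hAp hApos
      obtain ⟨p1, p2, p3⟩ := hP0 F d e f he0 hf0 hef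
      have hPlA : Submodule.span F {e, f} ≤ A := by
        rw [Submodule.span_le]
        intro v hv
        rcases hv with rfl | hv
        · exact heA
        · rw [Set.mem_singleton_iff.mp hv]
          exact hfA
      refine plane_step _ hPlA ?_ p1 p2 p3
      unfold Stab
      rw [Submodule.map_le_iff_le_comap]
      intro v hv
      rw [Submodule.mem_comap, Matrix.toLin'_apply, hfix v (hPlA hv)]
      exact hv
    · push Not at hfix
      obtain ⟨u, huA, hux⟩ := hfix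
      obtain ⟨B, hBA, hBs, hBn, hBp, hBdim⟩ := hB4 F d x hx hxx A hAs hAn hg u huA hux
      exact block_step B hBA hBs hBn hBp hBdim

theorem thm_of (hTop : Top.{u}) (hSP : SubPerp.{u}) (hC : Cancel.{u}) (hOS : OrthSum.{u})
    (hP0 : Plane0.{u}) (hPS : PlusSum.{u}) (hSg : SingPair.{u}) (hQV : QuadVan.{u})
    (hB4 : Block4.{u}) : Cfsg.Agent.Lib.Helper40.HPStmt.C2Fix.{u} := by
  intro F _ _ _ d m hd hm2 hme hmd hcond x hx hxx
  obtain ⟨hTn, hTp⟩ := hTop F d
  have hdim : finrank F ↥(⊤ : Submodule F (J d → F)) = 2 * d := by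
    rw [finrank_top, Module.finrank_fintype_fun_eq_card]
    simp [J]
    omega
  have hStop : Stab (x : Matrix (J d) (J d) F) (⊤ : Submodule F (J d → F)) := by
    unfold Stab
    exact le_top
  obtain ⟨W, -, hWs, hWn, hWp, hWdim⟩ := claim hSP hC hOS hP0 hPS hSg hQV hB4 F d x hx hxx d ⊤
    hStop hTn hTp hdim m hme (by omega) (by
      rcases hcond with h | h
      · exact Or.inr h
      · exact Or.inl h)
  obtain ⟨U, hUW, hUts, hUdim⟩ := hWp
  refine ⟨W, ⟨hWdim, fun u hu hu0 => (hWn u hu hu0).2, U, hUW, by rw [hUdim, hWdim], hUts⟩, hWs⟩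

end Cfsg.Agent.Lib.Helper59.C2Asm
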