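import Mathlib
import Cfsg.Agent.Lib.Helper59.C2Stmt
import Cfsg.Agent.Lib.Helper44.NegPairs

/-!
# S5974C / BLOCK4 (spare seat by the caller)

`main : Block4`: the invariant hyperbolic 4-space `span {u, v, N u, N v}`.
-/

set_option autoImplicit false

universe u

open scoped Matrix

namespace Cfsg.Agent.Lib.Helper59.C2BLOCK4

open Module QuadraticMap
open Cfsg.Agent.Lib.Helper44.TPStmt (J NDeg Stab TSub Plus)
open Cfsg.Agent.Lib.Helper44.NegPairs (plusQ)
open Cfsg.Agent.Lib.Helper59.C2Stmt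

theorem main : Block4.{u} := by
  intro F _ _ _ d x hx hxx A hAs hAn hg u huA hux
  obtain ⟨Q, hQ⟩ : ∃ Q : QuadraticForm F (J d → F), Q = plusQ d F := ⟨_, rfl⟩
  have hQc : ∀ v, Cfsg.quadFormPlus d F v = Q v := fun v => by rw [hQ]; rfl
  have hpc : ∀ a b, QuadraticMap.polar (Cfsg.quadFormPlus d F) a b = polar Q a b := fun a b => by
    rw [hQ]; rfl
  obtain ⟨X, hX⟩ : ∃ X : Matrix (J d) (J d) F, X = (x : Matrix (J d) (J d) F) := ⟨_, rfl⟩
  rw [← hX] at hxx hAs hg hux ⊢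
  have h2 : (2 : F) = 0 := CharTwo.two_eq_zero
  have hdbl : ∀ v : J d → F, v + v = 0 := by
    intro v
    rw [← two_smul F v, h2, zero_smul]
  have hxv : ∀ v : J d → F, X *ᵥ (X *ᵥ v) = v := by
    intro v
    rw [Matrix.mulVec_mulVec, hxx, Matrix.one_mulVec]
  have hQx : ∀ v, Q (X *ᵥ v) = Q v := by
    intro v
    rw [← hQc, ← hQc, hX]
    exact hx v v
  have hβx : ∀ a b, polar Q (X *ᵥ a) (X *ᵥ b) = polar Q a b := by
    intro a b
    unfold polar
    rw [← Matrix.mulVec_add, hQx, hQx, hQx]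
  have hadj : ∀ a b, polar Q a (X *ᵥ b) = polar Q (X *ᵥ a) b := by
    intro a b
    rw [← hβx a (X *ᵥ b), hxv]
  have hself : ∀ a, polar Q a a = 0 := by
    intro a
    rw [polar_self, two_smul]
    have : Q a + Q a = (2 : F) * Q a := by ring
    rw [this, h2, zero_mul]
  obtain ⟨N, hN⟩ : ∃ N : (J d → F) → (J d → F), N = fun v => X *ᵥ v + v := ⟨_, rfl⟩
  have hNa : ∀ v, N v = X *ᵥ v + v := fun v => by rw [hN]
  have hxA : ∀ v ∈ A, X *ᵥ v ∈ A := by
    intro v hv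
    have := hAs (Submodule.mem_map_of_mem hv)
    rwa [Matrix.toLin'_apply] at this
  have hNA : ∀ v ∈ A, N v ∈ A := fun v hv => by
    rw [hNa]
    exact A.add_mem (hxA v hv) hv
  have hN2 : ∀ v, N (N v) = 0 := by
    intro v
    rw [hNa, hNa, Matrix.mulVec_add, hxv]
    have : v + X *ᵥ v + (X *ᵥ v + v) = (v + v) + (X *ᵥ v + X *ᵥ v) := by abel
    rw [this, hdbl, hdbl, add_zero]
  have hNadj : ∀ a b, polar Q a (N b) = polar Q (N a) b := by
    intro a b
    rw [hNa, hNa, polar_add_right, polar_add_left, hadj]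
  have hNself : ∀ a ∈ A, polar Q a (N a) = 0 := by
    intro a ha
    rw [hNa, polar_add_right, hself, add_zero, ← hpc]
    exact hg a ha
  have hNN : ∀ a b, polar Q (N a) (N b) = 0 := by
    intro a b
    rw [← hNadj, hN2]
    simp [polar]
  have hQN : ∀ a ∈ A, Q (N a) = 0 := by
    intro a ha
    rw [hNa, QuadraticMap.map_add Q, hQx, polar_comm, ← hpc, hg a ha, add_zero]
    have : Q a + Q a = (2 : F) * Q a := by ring
    rw [this, h2, zero_mul]
  have hNu0 : N u ≠ 0 := by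
    intro h
    apply hux
    rw [hNa] at h
    have h3 : X *ᵥ u = X *ᵥ u + (u + u) := by rw [hdbl, add_zero]
    rw [h3, ← add_assoc, h, zero_add]
  -- `v` with `β(N u, v) = 1`
  obtain ⟨-, ⟨v₀, hv₀A, hv₀⟩⟩ := hAn (N u) (hNA u huA) hNu0
  rw [hpc] at hv₀
  obtain ⟨v, hv⟩ : ∃ v : J d → F, v = (polar Q (N u) v₀)⁻¹ • v₀ := ⟨_, rfl⟩
  have hvA : v ∈ A := hv ▸ A.smul_mem _ hv₀A
  have h1 : polar Q (N u) v = 1 := by
    rw [hv, polar_smul_right, smul_eq_mul, inv_mul_cancel₀ hv₀]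
  -- Gram matrix
  obtain ⟨t, ht⟩ : ∃ t : F, t = polar Q u v := ⟨_, rfl⟩
  have g_u_Nv : polar Q u (N v) = 1 := by rw [hNadj, h1]
  have g_v_Nu : polar Q v (N u) = 1 := by rw [polar_comm, h1]
  have g_Nv_u : polar Q (N v) u = 1 := by rw [polar_comm, g_u_Nv]
  have g_u_Nu : polar Q u (N u) = 0 := hNself u huA
  have g_Nu_u : polar Q (N u) u = 0 := by rw [polar_comm, g_u_Nu]
  have g_v_Nv : polar Q v (N v) = 0 := hNself v hvA
  have g_Nv_v : polar Q (N v) v = 0 := by rw [polar_comm, g_v_Nv]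
  have g_v_u : polar Q v u = t := by rw [polar_comm, ht]
  have key : ∀ c₀ c₁ c₂ c₃ : F,
      polar Q (c₀ • u + c₁ • v + c₂ • N u + c₃ • N v) (N v) = c₀ ∧
      polar Q (c₀ • u + c₁ • v + c₂ • N u + c₃ • N v) (N u) = c₁ ∧
      polar Q (c₀ • u + c₁ • v + c₂ • N u + c₃ • N v) u = c₁ * t + c₃ ∧
      polar Q (c₀ • u + c₁ • v + c₂ • N u + c₃ • N v) v = c₀ * t + c₂ := by
    intro c₀ c₁ c₂ c₃
    refine ⟨?_, ?_, ?_, ?_⟩
    · simp only [polar_add_left, polar_smul_left, smul_eq_mul, g_u_Nv, g_v_Nv, hNN]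
      ring
    · simp only [polar_add_left, polar_smul_left, smul_eq_mul, g_u_Nu, g_v_Nu, hNN]
      ring
    · simp only [polar_add_left, polar_smul_left, smul_eq_mul, hself, g_v_u, g_Nu_u, g_Nv_u]
      ring
    · simp only [polar_add_left, polar_smul_left, smul_eq_mul, hself, ← ht, h1, g_Nv_v]
      ring
  have key0 : ∀ c₀ c₁ c₂ c₃ : F,
      (∀ y ∈ ({u, v, N u, N v} : Set (J d → F)),
        polar Q (c₀ • u + c₁ • v + c₂ • N u + c₃ • N v) y = 0) →
      c₀ = 0 ∧ c₁ = 0 ∧ c₂ = 0 ∧ c₃ = 0 := by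
    intro c₀ c₁ c₂ c₃ h
    obtain ⟨k1, k2, k3, k4⟩ := key c₀ c₁ c₂ c₃
    have e0 : c₀ = 0 := by rw [← k1]; exact h _ (by simp)
    have e1 : c₁ = 0 := by rw [← k2]; exact h _ (by simp)
    have e3 : c₃ = 0 := by
      have := h u (by simp)
      rw [k3, e1, zero_mul, zero_add] at this
      exact this
    have e2 : c₂ = 0 := by
      have := h v (by simp)
      rw [k4, e0, zero_mul, zero_add] at this
      exact this
    exact ⟨e0, e1, e2, e3⟩
  obtain ⟨b, hb⟩ : ∃ b : Fin 4 → (J d → F), b = ![u, v, N u, N v] := ⟨_, rfl⟩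
  have hsum : ∀ c : Fin 4 → F, ∑ i, c i • b i
      = c 0 • u + c 1 • v + c 2 • N u + c 3 • N v := by
    intro c
    rw [Fin.sum_univ_four, hb]
    rfl
  have hli : LinearIndependent F b := by
    rw [Fintype.linearIndependent_iff]
    intro c hc
    rw [hsum] at hc
    obtain ⟨e0, e1, e2, e3⟩ := key0 (c 0) (c 1) (c 2) (c 3) (by
      intro y _
      rw [hc]
      simp [polar])
    intro i
    fin_cases i
    · exact e0
    · exact e1
    · exact e2
    · exact e3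
  obtain ⟨B, hB⟩ : ∃ B : Submodule F (J d → F), B = Submodule.span F (Set.range b) := ⟨_, rfl⟩
  have hmemB : ∀ w, w ∈ B ↔ ∃ c₀ c₁ c₂ c₃ : F, w = c₀ • u + c₁ • v + c₂ • N u + c₃ • N v := by
    intro w
    rw [hB, Submodule.mem_span_range_iff_exists_fun]
    constructor
    · rintro ⟨c, rfl⟩
      exact ⟨c 0, c 1, c 2, c 3, hsum c⟩
    · rintro ⟨c₀, c₁, c₂, c₃, rfl⟩
      refine ⟨![c₀, c₁, c₂, c₃], ?_⟩
      rw [hsum]
      rfl
  have huB : u ∈ B := (hmemB u).mpr ⟨1, 0, 0, 0, by simp⟩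
  have hvB : v ∈ B := (hmemB v).mpr ⟨0, 1, 0, 0, by simp⟩
  have hNuB : N u ∈ B := (hmemB _).mpr ⟨0, 0, 1, 0, by simp⟩
  have hNvB : N v ∈ B := (hmemB _).mpr ⟨0, 0, 0, 1, by simp⟩
  have hBA : B ≤ A := by
    intro w hw
    obtain ⟨c₀, c₁, c₂, c₃, rfl⟩ := (hmemB w).mp hw
    exact A.add_mem (A.add_mem (A.add_mem (A.smul_mem _ huA) (A.smul_mem _ hvA))
      (A.smul_mem _ (hNA u huA))) (A.smul_mem _ (hNA v hvA))
  have hxN : ∀ a, X *ᵥ a = N a - a := by
    intro a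
    rw [hNa, add_sub_cancel_right]
  have hxNN : ∀ a, X *ᵥ (N a) = N a := by
    intro a
    rw [hNa, Matrix.mulVec_add, hxv, add_comm]
  have hBs : Stab X B := by
    unfold Stab
    rw [Submodule.map_le_iff_le_comap]
    intro w hw
    rw [Submodule.mem_comap, Matrix.toLin'_apply]
    obtain ⟨c₀, c₁, c₂, c₃, rfl⟩ := (hmemB w).mp hw
    simp only [Matrix.mulVec_add, Matrix.mulVec_smul]
    rw [hxNN, hxNN, hxN u, hxN v]
    exact B.add_mem (B.add_mem (B.add_mem (B.smul_mem _ (B.sub_mem hNuB huB))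
      (B.smul_mem _ (B.sub_mem hNvB hvB))) (B.smul_mem _ hNuB)) (B.smul_mem _ hNvB)
  have hBn : NDeg d F B := by
    intro w hw hw0
    have h3 : ∃ y ∈ B, polar Q w y ≠ 0 := by
      by_contra hcon
      push Not at hcon
      obtain ⟨c₀, c₁, c₂, c₃, rfl⟩ := (hmemB w).mp hw
      obtain ⟨e0, e1, e2, e3⟩ := key0 c₀ c₁ c₂ c₃ (by
        intro y hy
        apply hcon
        rcases hy with rfl | rfl | rfl | hy
        · exact huB
        · exact hvB
        · exact hNuB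
        · rw [Set.mem_singleton_iff.mp hy]
          exact hNvB)
      apply hw0
      rw [e0, e1, e2, e3]
      simp
    obtain ⟨y, hy, hwy⟩ := h3
    refine ⟨⟨y, hy, ?_⟩, ⟨y, hy, ?_⟩⟩
    · rw [hpc, polar_comm]
      exact hwy
    · rw [hpc]
      exact hwy
  have hBdim : finrank F ↥B = 4 := by
    rw [hB, finrank_span_eq_card hli, Fintype.card_fin]
  have hli2 : LinearIndependent F ![N u, N v] := by
    rw [LinearIndependent.pair_iff]
    intro s r hsr
    obtain ⟨e0, e1, e2, e3⟩ := key0 0 0 s r (by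
      intro y _
      have : (0 : F) • u + (0 : F) • v + s • N u + r • N v = 0 := by
        rw [zero_smul, zero_smul, zero_add, zero_add, hsr]
      rw [this]
      simp [polar])
    exact ⟨e2, e3⟩
  refine ⟨B, hBA, hBs, hBn, ?_, hBdim⟩
  refine ⟨Submodule.span F (Set.range ![N u, N v]), ?_, ?_, ?_⟩
  · rw [Submodule.span_le]
    rintro w ⟨i, rfl⟩
    fin_cases i
    · exact hNuB
    · exact hNvB
  · intro w hw
    rw [Submodule.mem_span_range_iff_exists_fun] at hw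
    obtain ⟨c, rfl⟩ := hw
    rw [Fin.sum_univ_two, hQc]
    show Q (c 0 • N u + c 1 • N v) = 0
    rw [QuadraticMap.map_add Q, QuadraticMap.map_smul, QuadraticMap.map_smul, hQN u huA,
      hQN v hvA, polar_smul_left, polar_smul_right, hNN]
    simp
  · rw [finrank_span_eq_card hli2, Fintype.card_fin, hBdim]

end Cfsg.Agent.Lib.Helper59.C2BLOCK4
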