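import Mathlib
import Cfsg.Agent.Lib.Helper32.D8Stmt

/-!
# S3716 / NOFUS (second seat): `a` and `w` are not conjugate in `G`

`main (hNF : D8Stmt.NF) (hTI : D8Stmt.TI) : D8Stmt.NOFUS`.

If `g a g⁻¹ = w`, then `x*y` and `g y g⁻¹` are elements of order 3 of `C_G(w)`.  Take Sylow
3-subgroups `P1 ∋ x*y`, `P2 ∋ g y g⁻¹` of `C_G(w)` and `c` with `c P2 c⁻¹ = P1`.  `P1` has order
at most 9, so it is abelian, hence inside `C_G(x*y) ≤ N`, hence (3-elements of `N` lie in `T`)
inside `T`.  So `t = (c g) y (c g)⁻¹` lies in `T` and commutes with `w`; by TI `c g ∈ N`, and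
`N` permutes `<x> ∪ <y>` (normal form), so `t ∈ <x> ∪ <y>`; but `w` swaps `x` and `y`.
-/

set_option autoImplicit false

namespace Cfsg.Agent.Lib.Helper59.D8NOFUS

open Cfsg Cfsg.Agent.Lib.Helper32
open scoped Pointwise

universe u

lemma conj_mem_zp {G : Type u} [Group G] {n x x' s : G} (h : n * x * n⁻¹ = x')
    (hs : s ∈ Subgroup.zpowers x) : n * s * n⁻¹ ∈ Subgroup.zpowers x' := by
  obtain ⟨k, rfl⟩ := Subgroup.mem_zpowers_iff.mp hs
  rw [← conj_zpow, h]; exact Subgroup.zpow_mem_zpowers x' k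

/-- Membership in the union of the two axes. -/
def Ax {G : Type u} [Group G] (x y s : G) : Prop :=
  s ∈ Subgroup.zpowers x ∨ s ∈ Subgroup.zpowers y

/-- Conjugation by `n` preserves the union of the two axes. -/
def Pres {G : Type u} [Group G] (x y n : G) : Prop :=
  ∀ s, Ax x y s → Ax x y (n * s * n⁻¹)

lemma pres_mul {G : Type u} [Group G] {x y n n' : G} (h : Pres x y n) (h' : Pres x y n') :
    Pres x y (n * n') := by
  intro s hs
  have h1 := h _ (h' s hs)
  have e : n * n' * s * (n * n')⁻¹ = n * (n' * s * n'⁻¹) * n⁻¹ := by group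
  rw [e]; exact h1

lemma pres_pow {G : Type u} [Group G] {x y n : G} (h : Pres x y n) (k : ℕ) :
    Pres x y (n ^ k) := by
  induction k with
  | zero => intro s hs; simpa using hs
  | succ k ih => rw [pow_succ]; exact pres_mul ih h

lemma pres_of {G : Type u} [Group G] {x y n : G}
    (hx : n * x * n⁻¹ = x ∨ n * x * n⁻¹ = x⁻¹ ∨ n * x * n⁻¹ = y)
    (hy : n * y * n⁻¹ = y ∨ n * y * n⁻¹ = y⁻¹ ∨ n * y * n⁻¹ = x) : Pres x y n := by
  intro s hs
  rcases hs with hs | hs
  · rcases hx with h | h | h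
    · exact Or.inl (conj_mem_zp h hs)
    · left
      have h1 := conj_mem_zp h hs
      rwa [Subgroup.zpowers_inv] at h1
    · exact Or.inr (conj_mem_zp h hs)
  · rcases hy with h | h | h
    · exact Or.inr (conj_mem_zp h hs)
    · right
      have h1 := conj_mem_zp h hs
      rwa [Subgroup.zpowers_inv] at h1
    · exact Or.inl (conj_mem_zp h hs)

lemma pgroup_zp {H : Type u} [Group H] (v : H) (hv : v ^ 3 = 1) :
    IsPGroup 3 (Subgroup.zpowers v) := by
  rintro ⟨z, hz⟩
  obtain ⟨k, rfl⟩ := Subgroup.mem_zpowers_iff.mp hz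
  refine ⟨1, Subtype.ext ?_⟩
  simp only [pow_one, Subgroup.coe_pow, Subgroup.coe_one]
  rw [← zpow_natCast, ← zpow_mul, mul_comm, zpow_mul, zpow_natCast, hv, one_zpow]

lemma fin_contra {G : Type u} [Group G] {x y : G} (hy3 : y ^ 3 = 1)
    (hyx : y ∉ Subgroup.zpowers x) (k : ℤ) (h : y ^ k = x ^ k) (h1 : x ^ k ≠ 1) : False := by
  have e : y ^ k = y ^ (k % ((3 : ℕ) : ℤ)) := zpow_eq_zpow_emod' k hy3
  have hk0 : 0 ≤ k % ((3 : ℕ) : ℤ) := Int.emod_nonneg k (by norm_num)
  have hk3 : k % ((3 : ℕ) : ℤ) < 3 := Int.emod_lt_of_pos k (by norm_num)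
  obtain ⟨r, hr⟩ : ∃ r : ℤ, r = k % ((3 : ℕ) : ℤ) := ⟨_, rfl⟩
  rw [← hr] at e hk0 hk3
  interval_cases r
  · apply h1; rw [← h, e]; simp
  · apply hyx
    have : y = x ^ k := by rw [← h, e]; simp
    rw [this]; exact Subgroup.zpow_mem_zpowers x k
  · apply hyx
    have h4 : y ^ 4 = y := by rw [pow_succ, hy3, one_mul]
    have : y = (x ^ k) ^ (2 : ℤ) := by
      rw [← h, e, ← zpow_mul]
      have : y ^ ((2 : ℤ) * 2) = y ^ 4 := by
        rw [← zpow_natCast]; norm_num
      rw [this, h4]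
    rw [this, ← zpow_mul]; exact Subgroup.zpow_mem_zpowers x _

/-- Elements of 3-power order of `N` lie in `T`. -/
lemma three_elt {G : Type u} [Group G] [Finite G] {T N : Subgroup G} {x y a b w : G}
    (C : D8Stmt.Cfg T N x y a b w) (p : G) (hpN : p ∈ N) (hp9 : p ^ 9 = 1) : p ∈ T := by
  have hnormal : (T.subgroupOf N).Normal := by
    constructor
    intro n hn g
    rw [Subgroup.mem_subgroupOf] at hn ⊢
    simpa using C.nT g g.2 n hn
  have hcard : Nat.card (↥N ⧸ T.subgroupOf N) = 8 := by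
    have h1 := Subgroup.card_eq_card_quotient_mul_card_subgroup (T.subgroupOf N)
    have h2 : Nat.card (T.subgroupOf N) = 9 := by
      rw [Nat.card_congr (Subgroup.subgroupOfEquivOfLe C.TN).toEquiv, C.cardT]
    rw [C.cardN, h2] at h1; omega
  have h8 : ((QuotientGroup.mk ⟨p, hpN⟩ : ↥N ⧸ T.subgroupOf N)) ^ 8 = 1 := by
    rw [← hcard]; exact pow_card_eq_one'
  have h9 : ((QuotientGroup.mk ⟨p, hpN⟩ : ↥N ⧸ T.subgroupOf N)) ^ 9 = 1 := by
    rw [← QuotientGroup.mk_pow]
    have : (⟨p, hpN⟩ : ↥N) ^ 9 = 1 := Subtype.ext (by simpa using hp9)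
    rw [this]; rfl
  have h1 : ((QuotientGroup.mk ⟨p, hpN⟩ : ↥N ⧸ T.subgroupOf N)) = 1 := by
    have := h9
    rw [pow_succ, h8, one_mul] at this
    exact this
  rw [QuotientGroup.eq_one_iff] at h1
  exact Subgroup.mem_subgroupOf.mp h1

theorem main (hNF : D8Stmt.NF.{u}) (hTI : D8Stmt.TI.{u}) : D8Stmt.NOFUS.{u} := by
  intro G _ _ T N x y a b w C hconj
  obtain ⟨g, hg⟩ := isConj_iff.mp hconj
  obtain ⟨-, hN, -⟩ := hNF C
  have hww : w * w = 1 := by rw [← sq]; exact C.w2
  have hwy : w * y * w⁻¹ = x := by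
    have h1 : y = w * x * w⁻¹ := C.wx.symm
    rw [h1]
    calc w * (w * x * w⁻¹) * w⁻¹ = (w * w) * x * (w * w)⁻¹ := by group
      _ = x := by rw [hww]; group
  have hy1 : y ≠ 1 := by
    intro h; exact C.yx (h ▸ one_mem _)
  have hxy1 : x * y ≠ 1 := by
    intro h; apply C.yx
    have : y = x⁻¹ := eq_inv_of_mul_eq_one_right h
    rw [this]; exact Subgroup.inv_mem _ (Subgroup.mem_zpowers x)
  have hxyT : x * y ∈ T := T.mul_mem C.xT C.yT
  have hwx' : w * x = y * w := mul_inv_eq_iff_eq_mul.mp C.wx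
  have hwy' : w * y = x * w := mul_inv_eq_iff_eq_mul.mp hwy
  have hu1 : x * y ∈ Subgroup.centralizer ({w} : Set G) := by
    rw [Subgroup.mem_centralizer_iff]
    intro h hh
    rw [Set.mem_singleton_iff] at hh; subst hh
    calc h * (x * y) = (h * x) * y := by group
      _ = y * (h * y) := by rw [hwx']; group
      _ = (y * x) * h := by rw [hwy']; group
      _ = x * y * h := by rw [← C.xy]
  have hu2 : g * y * g⁻¹ ∈ Subgroup.centralizer ({w} : Set G) := by
    rw [Subgroup.mem_centralizer_iff]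
    intro h hh
    rw [Set.mem_singleton_iff] at hh; subst hh
    rw [← hg]
    have e1 : g * a * g⁻¹ * (g * y * g⁻¹) = g * (a * y) * g⁻¹ := by group
    rw [e1, C.ay]; group
  have hfact : Fact (Nat.Prime 3) := ⟨by norm_num⟩
  have hxy3 : (x * y) ^ 3 = 1 := by
    rw [(show Commute x y from C.xy).mul_pow, C.x3, C.y3, one_mul]
  have hgy3 : (g * y * g⁻¹) ^ 3 = 1 := by
    rw [conj_pow, C.y3]; group
  have hp1 : IsPGroup 3 (Subgroup.zpowers
      (⟨x * y, hu1⟩ : Subgroup.centralizer ({w} : Set G))) :=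
    pgroup_zp _ (Subtype.ext (by simpa using hxy3))
  have hp2 : IsPGroup 3 (Subgroup.zpowers
      (⟨g * y * g⁻¹, hu2⟩ : Subgroup.centralizer ({w} : Set G))) :=
    pgroup_zp _ (Subtype.ext (by simpa using hgy3))
  obtain ⟨P1, hP1⟩ := hp1.exists_le_sylow
  obtain ⟨P2, hP2⟩ := hp2.exists_le_sylow
  obtain ⟨c, hc⟩ := MulAction.exists_smul_eq (Subgroup.centralizer ({w} : Set G)) P2 P1
  -- every element of `P1` lies in `T`
  have hP1T : ∀ p : Subgroup.centralizer ({w} : Set G),
      p ∈ (P1 : Subgroup (Subgroup.centralizer ({w} : Set G))) → (p : G) ∈ T := by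
    intro p hp
    obtain ⟨n, hn⟩ := IsPGroup.iff_card.mp P1.isPGroup'
    have hn2 : n ≤ 2 := by
      by_contra hcon
      push Not at hcon
      apply C.syl
      have d1 : Nat.card (P1 : Subgroup (Subgroup.centralizer ({w} : Set G))) ∣
          Nat.card (Subgroup.centralizer ({w} : Set G)) := Subgroup.card_subgroup_dvd_card _
      have d2 : Nat.card (Subgroup.centralizer ({w} : Set G)) ∣ Nat.card G :=
        Subgroup.card_subgroup_dvd_card _
      rw [hn] at d1
      have d3 : 3 ^ 3 ∣ 3 ^ n := pow_dvd_pow 3 hcon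
      exact (show (27 : ℕ) = 3 ^ 3 by norm_num) ▸ (d3.trans (d1.trans d2))
    have hcomm : ∀ p q : (P1 : Subgroup (Subgroup.centralizer ({w} : Set G))),
        p * q = q * p := by
      interval_cases n
      · have hss : Subsingleton (P1 : Subgroup (Subgroup.centralizer ({w} : Set G))) :=
          (Nat.card_eq_one_iff_unique.mp (by simpa using hn)).1
        intro p q; rw [Subsingleton.elim p q]
      · have hcyc : IsCyclic (P1 : Subgroup (Subgroup.centralizer ({w} : Set G))) :=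
          isCyclic_of_prime_card (p := 3) (by simpa using hn)
        intro p q
        exact (IsCyclic.isMulCommutative).is_comm.comm p q
      · intro p q
        exact (IsPGroup.isMulCommutative_of_card_eq_prime_sq (p := 3)
          (by simpa using hn)).is_comm.comm p q
    have h1 := hcomm ⟨p, hp⟩ ⟨⟨x * y, hu1⟩, hP1 (Subgroup.mem_zpowers _)⟩
    have h2 : (p : G) * (x * y) = (x * y) * (p : G) := by
      have := congrArg (fun z : (P1 : Subgroup (Subgroup.centralizer ({w} : Set G))) =>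
        ((z : Subgroup.centralizer ({w} : Set G)) : G)) h1
      simpa using this
    have hpN : (p : G) ∈ N := C.loc (x * y) hxyT hxy1 p h2
    have hp9 : (p : G) ^ 9 = 1 := by
      have h3 := pow_card_eq_one' (G := (P1 : Subgroup (Subgroup.centralizer ({w} : Set G))))
        (x := ⟨p, hp⟩)
      rw [hn] at h3
      have h4 : (⟨p, hp⟩ : (P1 : Subgroup (Subgroup.centralizer ({w} : Set G)))) ^ 9 = 1 := by
        have e : 9 = 3 ^ n * 3 ^ (2 - n) := by
          rw [← pow_add, show n + (2 - n) = 2 by omega]; norm_num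
        rw [e, pow_mul, h3, one_pow]
      have := congrArg (fun z : (P1 : Subgroup (Subgroup.centralizer ({w} : Set G))) =>
        ((z : Subgroup.centralizer ({w} : Set G)) : G)) h4
      simpa using this
    exact three_elt C p hpN hp9
  have hmem : c * ⟨g * y * g⁻¹, hu2⟩ * c⁻¹ ∈
      (P1 : Subgroup (Subgroup.centralizer ({w} : Set G))) := by
    have h1 : MulAut.conj c • (⟨g * y * g⁻¹, hu2⟩ : Subgroup.centralizer ({w} : Set G)) ∈
        MulAut.conj c • (P2 : Subgroup (Subgroup.centralizer ({w} : Set G))) :=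
      Subgroup.smul_mem_pointwise_smul _ _ _ (hP2 (Subgroup.mem_zpowers _))
    rw [← Sylow.coe_subgroup_smul, hc] at h1
    simpa [MulAut.smul_def] using h1
  have htT := hP1T _ hmem
  have htw := (c * ⟨g * y * g⁻¹, hu2⟩ * c⁻¹ : Subgroup.centralizer ({w} : Set G)).2
  rw [Subgroup.mem_centralizer_iff] at htw
  have htw' := htw w (Set.mem_singleton w)
  have et : ((c * ⟨g * y * g⁻¹, hu2⟩ * c⁻¹ : Subgroup.centralizer ({w} : Set G)) : G) =
      ((c : G) * g) * y * ((c : G) * g)⁻¹ := by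
    simp only [Subgroup.coe_mul, Subgroup.coe_inv]
    group
  rw [et] at htT htw'
  have hhN : (c : G) * g ∈ N := hTI C _ y C.yT hy1 htT
  obtain ⟨i, j, k, l, m, hh⟩ := (hN _).mp hhN
  have presx : Pres x y x := pres_of (Or.inl (by group))
    (Or.inl (by rw [C.xy]; group))
  have presy : Pres x y y := pres_of (Or.inl (by rw [← C.xy]; group)) (Or.inl (by group))
  have presa : Pres x y a := pres_of (Or.inr (Or.inl C.ax))
    (Or.inl (by rw [C.ay]; group))
  have presb : Pres x y b := pres_of (Or.inl (by rw [C.bx]; group))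
    (Or.inr (Or.inl C.by_))
  have presw : Pres x y w := pres_of (Or.inr (Or.inr C.wx)) (Or.inr (Or.inr hwy))
  have presh : Pres x y ((c : G) * g) := by
    rw [hh]
    exact pres_mul (pres_mul (pres_mul (pres_mul (pres_pow presx i) (pres_pow presy j))
      (pres_pow presa k)) (pres_pow presb l)) (pres_pow presw m)
  have hax := presh y (Or.inr (Subgroup.mem_zpowers y))
  have ht1 : (c : G) * g * y * ((c : G) * g)⁻¹ ≠ 1 := by
    intro h; exact hy1 (conj_eq_one_iff.mp h)
  have hconjw : w * ((c : G) * g * y * ((c : G) * g)⁻¹) * w⁻¹ =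
      (c : G) * g * y * ((c : G) * g)⁻¹ := by
    rw [htw']; group
  rcases hax with hax | hax
  · obtain ⟨q, hq⟩ := Subgroup.mem_zpowers_iff.mp hax
    rw [← hq] at hconjw ht1
    rw [← conj_zpow, C.wx] at hconjw
    exact fin_contra C.y3 C.yx q hconjw ht1
  · obtain ⟨q, hq⟩ := Subgroup.mem_zpowers_iff.mp hax
    rw [← hq] at hconjw ht1
    rw [← conj_zpow, hwy] at hconjw
    exact fin_contra C.y3 C.yx q hconjw.symm (hconjw ▸ ht1)

end Cfsg.Agent.Lib.Helper59.D8NOFUS
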