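import Mathlib
import Cfsg.Agent.Lib.Helper87.FUSHStmt

/-! helper59: S1438 piece FUSH, step A of helper87's split (second seat): Frattini argument in `S`. -/

set_option autoImplicit false

namespace Cfsg.Agent.Lib.Helper59.FUSHA

universe u

open Cfsg.Agent.Lib.Helper23.HNStmt Cfsg.Agent.Lib.Helper87.FUSHStmt

theorem main (hC : HallConj.{u}) : StepA.{u} := by
  intro X _ _ S H hsolv hSn hHS hHall x hx m hm
  have hBS : H.map (MulAut.conj m).toMonoidHom ≤ S := by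
    rintro _ ⟨h, hh, rfl⟩
    exact hSn.conj_mem h (hHS hh) m
  have hcard : Nat.card H = Nat.card (H.map (MulAut.conj m).toMonoidHom) :=
    (Subgroup.card_map_of_injective (MulAut.conj m).injective).symm
  obtain ⟨s, hs, hB⟩ := hC S H (H.map (MulAut.conj m).toMonoidHom) hsolv hHS hBS hcard hHall
  have hfwd : ∀ h ∈ H, s⁻¹ * m * h * (s⁻¹ * m)⁻¹ ∈ H := by
    intro h hh
    have h1 : m * h * m⁻¹ ∈ H.map (MulAut.conj m).toMonoidHom := ⟨h, hh, rfl⟩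
    rw [hB] at h1
    obtain ⟨h', hh', e⟩ := h1
    have e' : s * h' * s⁻¹ = m * h * m⁻¹ := e
    have e2 : s⁻¹ * m * h * (s⁻¹ * m)⁻¹ = h' := by
      have e3 : s⁻¹ * m * h * (s⁻¹ * m)⁻¹ = s⁻¹ * (m * h * m⁻¹) * s := by group
      rw [e3, ← e']; group
    rw [e2]; exact hh'
  have hbwd : ∀ h : X, s⁻¹ * m * h * (s⁻¹ * m)⁻¹ ∈ H → h ∈ H := by
    intro h hh
    have h1 : s * (s⁻¹ * m * h * (s⁻¹ * m)⁻¹) * s⁻¹ ∈ H.map (MulAut.conj s).toMonoidHom :=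
      ⟨_, hh, rfl⟩
    rw [← hB] at h1
    obtain ⟨h'', hh'', e⟩ := h1
    have e' : m * h'' * m⁻¹ = s * (s⁻¹ * m * h * (s⁻¹ * m)⁻¹) * s⁻¹ := e
    have e2 : s * (s⁻¹ * m * h * (s⁻¹ * m)⁻¹) * s⁻¹ = m * h * m⁻¹ := by group
    rw [e2] at e'
    have e4 : h'' = h := by
      have e5 : m⁻¹ * (m * h'' * m⁻¹) * m = m⁻¹ * (m * h * m⁻¹) * m := by rw [e']
      have e6 : m⁻¹ * (m * h'' * m⁻¹) * m = h'' := by group
      have e7 : m⁻¹ * (m * h * m⁻¹) * m = h := by group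
      rw [e6, e7] at e5
      exact e5
    rw [← e4]; exact hh''
  refine ⟨s⁻¹ * m, ?_, s, hs, hfwd x hx, by group⟩
  rw [Subgroup.mem_normalizer_iff]
  intro h
  exact ⟨hfwd h, hbwd h⟩

end Cfsg.Agent.Lib.Helper59.FUSHA
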