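import Mathlib
import Cfsg.Agent.Lib.Helper40.HPStmt
import Cfsg.Agent.Lib.Helper59.C2Asm
import Cfsg.Agent.Lib.Helper59.C2BLOCK4
import Cfsg.Agent.Lib.Helper72.C2PLANE0
import Cfsg.Agent.Lib.Helper53.C2PLUSSUM
import Cfsg.Agent.Lib.Helper53.C2SINGPAIR
import Cfsg.Agent.Lib.Helper95.C2QUADVAN
import Cfsg.Agent.Lib.Helper47.TPTOP
import Cfsg.Agent.Lib.Helper21.TPSUBPERP
import Cfsg.Agent.Lib.Helper11.TPCANCEL
import Cfsg.Agent.Lib.Helper48.TPORTHSUM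

/-!
# S5974 / C2FIX (call by helper40)

`main : C2Fix`: characteristic 2, every isometry with `x * x = 1` of the plus form fixes a
hyperbolic `m`-space if `d` is odd or `4 ∣ m`.  Assembly `C2Asm.thm_of` of the sub-call pieces
(PLANE0 helper72, PLUSSUM and SINGPAIR helper53, QUADVAN helper95, BLOCK4) and the landed S5973
pieces TOP, SUBPERP, CANCEL, ORTHSUM.
-/

set_option autoImplicit false

universe u

namespace Cfsg.Agent.Lib.Helper59.HPC2FIX

theorem main : Cfsg.Agent.Lib.Helper40.HPStmt.C2Fix.{u} :=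
  Cfsg.Agent.Lib.Helper59.C2Asm.thm_of
    Cfsg.Agent.Lib.Helper47.TPTOP.main
    Cfsg.Agent.Lib.Helper21.TPSUBPERP.main
    Cfsg.Agent.Lib.Helper11.TPCANCEL.main
    Cfsg.Agent.Lib.Helper48.TPORTHSUM.main
    Cfsg.Agent.Lib.Helper72.C2PLANE0.main
    Cfsg.Agent.Lib.Helper53.C2PLUSSUM.main
    Cfsg.Agent.Lib.Helper53.C2SINGPAIR.main
    Cfsg.Agent.Lib.Helper95.C2QUADVAN.main
    Cfsg.Agent.Lib.Helper59.C2BLOCK4.main

end Cfsg.Agent.Lib.Helper59.HPC2FIX
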