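import Mathlib
import Cfsg.Agent.Lib.Helper26.J2FusStmt

/-! Piece [CARD] of S5321: the centraliser of `t` has order 1920. -/

set_option autoImplicit false

namespace Cfsg.Agent.Lib.Helper59.J2FusCARD

theorem mem_cent {G : Type} [Group G] (t g : G) :
    g ∈ Subgroup.centralizer ({t} : Set G) ↔ g * t = t * g := by
  rw [Subgroup.mem_centralizer_iff]
  constructor
  · intro h
    exact (h t (Set.mem_singleton t)).symm
  · intro h x hx
    rw [Set.mem_singleton_iff] at hx
    rw [hx]
    exact h.symm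

/-- the class of `t` has at most `|G| / |C(t)|` elements -/
theorem index_ge {G : Type} [Group G] [Finite G] (t : G) (r : ℕ → G) (n : ℕ)
    (hr : ∀ k < n, ∃ c : G, c * t = r k * c)
    (hinj : ∀ i < n, ∀ j < n, r i = r j → i = j) :
    n ≤ (Subgroup.centralizer ({t} : Set G)).index := by
  classical
  choose c hc using fun k : Fin n => hr k.1 k.2
  have hf : Function.Injective
      (fun k : Fin n => (c k : G ⧸ Subgroup.centralizer ({t} : Set G))) := by
    intro i j hij
    have h1 : (c i)⁻¹ * c j ∈ Subgroup.centralizer ({t} : Set G) := QuotientGroup.eq.mp hij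
    rw [mem_cent] at h1
    have hi : r i.1 = c i * t * (c i)⁻¹ := by rw [hc i]; group
    have hj : r j.1 = c j * t * (c j)⁻¹ := by rw [hc j]; group
    have h2 : c j * t * (c j)⁻¹ = c i * t * (c i)⁻¹ := by
      have e : c j * t * (c j)⁻¹ = c i * ((c i)⁻¹ * c j * t) * (c j)⁻¹ := by group
      rw [e, h1]
      group
    exact Fin.ext (hinj i.1 i.2 j.1 j.2 (by rw [hi, hj, h2]))
  have h3 := Nat.card_le_card_of_injective _ hf
  rw [Nat.card_fin] at h3
  exact h3

theorem main : Cfsg.Agent.Lib.Helper26.J2FusStmt.CardC := by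
  intro G _ _ t P r y3 y5 hG hP hPt hr hinj hy3t hy3 hy3ne hy5t hy5 hy5ne
  have hidx := index_ge t r 315 hr hinj
  have hmul := Subgroup.card_mul_index (Subgroup.centralizer ({t} : Set G))
  rw [hG] at hmul
  have hle : Nat.card ↥(Subgroup.centralizer ({t} : Set G)) ≤ 1920 := by
    by_contra hcon
    push Not at hcon
    have h1 : 1921 * 315 ≤ Nat.card ↥(Subgroup.centralizer ({t} : Set G)) *
        (Subgroup.centralizer ({t} : Set G)).index := Nat.mul_le_mul hcon hidx
    omega
  have hPC : P ≤ Subgroup.centralizer ({t} : Set G) := fun s hs => (mem_cent t s).mpr (hPt s hs)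
  have h128 : 128 ∣ Nat.card ↥(Subgroup.centralizer ({t} : Set G)) := by
    rw [← hP]; exact Subgroup.card_dvd_of_le hPC
  have : Fact (Nat.Prime 3) := ⟨Nat.prime_three⟩
  have : Fact (Nat.Prime 5) := ⟨Nat.prime_five⟩
  have h3 : 3 ∣ Nat.card ↥(Subgroup.centralizer ({t} : Set G)) := by
    have ho : orderOf y3 = 3 := orderOf_eq_prime hy3 hy3ne
    have h1 := orderOf_dvd_natCard
      (⟨y3, (mem_cent t y3).mpr hy3t⟩ : ↥(Subgroup.centralizer ({t} : Set G)))
    rwa [Subgroup.orderOf_mk, ho] at h1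
  have h5 : 5 ∣ Nat.card ↥(Subgroup.centralizer ({t} : Set G)) := by
    have ho : orderOf y5 = 5 := orderOf_eq_prime hy5 hy5ne
    have h1 := orderOf_dvd_natCard
      (⟨y5, (mem_cent t y5).mpr hy5t⟩ : ↥(Subgroup.centralizer ({t} : Set G)))
    rwa [Subgroup.orderOf_mk, ho] at h1
  have h384 : 128 * 3 ∣ Nat.card ↥(Subgroup.centralizer ({t} : Set G)) :=
    Nat.Coprime.mul_dvd_of_dvd_of_dvd (by decide) h128 h3
  have h1920 : 128 * 3 * 5 ∣ Nat.card ↥(Subgroup.centralizer ({t} : Set G)) :=
    Nat.Coprime.mul_dvd_of_dvd_of_dvd (by decide) h384 h5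
  have hge : 1920 ≤ Nat.card ↥(Subgroup.centralizer ({t} : Set G)) :=
    Nat.le_of_dvd Nat.card_pos h1920
  omega

end Cfsg.Agent.Lib.Helper59.J2FusCARD
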