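import Mathlib
import Cfsg.Agent.Lib.Helper85.PPStmt
import Cfsg.Agent.Lib.Helper86.FSMore

/-!
# S5113 / HM: the hyperfocal subgroup is monotone in the system.
-/

set_option autoImplicit false

namespace Cfsg.Agent.Lib.Helper59.PPHM

open Cfsg Cfsg.FusionSystem Cfsg.Agent.Lib.Helper85.PPStmt

universe u

theorem main : HypMono.{u} := by
  intro Ω _ S U F E p hUS hEF
  unfold FusionSystem.hyperfocalSubgroup
  rw [Subgroup.closure_le]
  rintro _ ⟨P, α, x, hP, hα, rfl⟩
  have h1 := Cfsg.Agent.Lib.Helper86.FSMore.pResidual_map_le p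
    (Cfsg.Agent.Lib.Helper86.FSMore.autGroup_mono E F hEF P)
  have h2 : (α : MulAut P) ∈ (pResidual p (E.autGroup P)).map (E.autGroup P).subtype :=
    ⟨α, hα, rfl⟩
  obtain ⟨β, hβ, hβα⟩ := h1 h2
  apply Subgroup.subset_closure
  refine ⟨P, β, x, hP.trans hUS, hβ, ?_⟩
  have e : (β : MulAut P) = (α : MulAut P) := hβα
  rw [e]

end Cfsg.Agent.Lib.Helper59.PPHM
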