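import Mathlib
import Cfsg.Agent.Lib.Helper85.PPStmt
import Cfsg.Agent.Lib.Helper87.FSBasic
import Cfsg.Agent.Lib.Helper87.FSHyp
import Cfsg.Agent.S5077

/-!
# S5113 / LB: existence, multiplicativity and normalisation of the local degree.
-/

set_option autoImplicit false

namespace Cfsg.Agent.Lib.Helper59.PPLB

open Cfsg Cfsg.FusionSystem Cfsg.Agent.Lib.Helper85.PPStmt

universe u v

/-- the value of the inverse of an automorphism inducing conjugation by `g` -/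
theorem inv_apply_of_induces {Ω : Type u} [Group Ω] {Q : Subgroup Ω} (c : MulAut Q) (g : Ω)
    (hc : ∀ x : Q, ((c x : Q) : Ω) = g * (x : Ω) * g⁻¹) (w : Q) :
    ((c⁻¹ w : Q) : Ω) = g⁻¹ * (w : Ω) * g := by
  have h := hc (c⁻¹ w)
  rw [MulAut.apply_inv_self] at h
  rw [h]
  group

theorem res : LDegRes.{u, v} := by
  intro Ω _ S F p A _ δ Q hQ n hn
  refine ⟨n, 1, hn, ?_, map_one δ, ?_⟩
  · exact Subgroup.one_mem _
  · intro x
    simp

theorem mul : LDegMul.{u, v} := by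
  intro Ω _ S F p A _ δ Q hQ γ γ' a b hγ hγ'
  obtain ⟨n, r, hn, hr, hra, hγn⟩ := hγ
  obtain ⟨n', r', hn', hr', hrb, hγn'⟩ := hγ'
  have hcmem : Q.normalizerMonoidHom ⟨(r' : Ω), hr'⟩ ∈ F.autGroup Q :=
    Cfsg.Agent.Lib.Helper87.FSBasic.autInducedBy_le_autGroup F hQ
      (Cfsg.Agent.Lib.Helper87.FSBasic.conj_mem_autInducedBy r'.2 hr')
  obtain ⟨c, hc⟩ : ∃ c : F.autGroup Q, c = ⟨Q.normalizerMonoidHom ⟨(r' : Ω), hr'⟩, hcmem⟩ :=
    ⟨_, rfl⟩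
  have hcv : ∀ x : Q, (((c : MulAut Q) x : Q) : Ω) = (r' : Ω) * (x : Ω) * (r' : Ω)⁻¹ := by
    intro x
    rw [hc]
    rfl
  have hm : c⁻¹ * n * c ∈ pResidual p (F.autGroup Q) := by
    have := Cfsg.Agent.Lib.Helper87.FSHyp.pResidual_conj_mem p hn c⁻¹
    rwa [inv_inv] at this
  refine ⟨c⁻¹ * n * c * n', r * r', Subgroup.mul_mem _ hm hn', ?_, ?_, ?_⟩
  · have : ((r * r' : S) : Ω) = (r : Ω) * (r' : Ω) := rfl
    rw [this]
    exact Subgroup.mul_mem _ hr hr'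
  · rw [map_mul, hra, hrb]
  · intro x
    rw [MulAut.mul_apply, hγn]
    have e1 : (γ' x : Q) = (c : MulAut Q) ((n' : MulAut Q) x) := by
      apply Subtype.ext
      rw [hγn', hcv]
    rw [e1]
    have e2 : ((((c⁻¹ * n * c * n' : F.autGroup Q) : MulAut Q) x : Q) : Ω)
        = (r' : Ω)⁻¹ * (((n : MulAut Q) ((c : MulAut Q) ((n' : MulAut Q) x)) : Q) : Ω)
          * (r' : Ω) := by
      have : ((c⁻¹ * n * c * n' : F.autGroup Q) : MulAut Q) x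
          = (c : MulAut Q)⁻¹ ((n : MulAut Q) ((c : MulAut Q) ((n' : MulAut Q) x))) := rfl
      rw [this]
      exact inv_apply_of_induces (c : MulAut Q) (r' : Ω) hcv _
    rw [e2]
    have : ((r * r' : S) : Ω) = (r : Ω) * (r' : Ω) := rfl
    rw [this]
    group

theorem ex : LDegEx.{u, v} := by
  intro Ω _ S _ p _ hS F hsat A _ δ Q hQ γ hγ
  have hfa : F.IsFullyAutomized p Q := (((Cfsg.Agent.S5077.result p hS F).1 hsat).1 Q hQ).2
  have hQS : Q ≤ S := hQ.1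
  obtain ⟨n, hn, r, hr, hγr⟩ := Cfsg.Agent.Lib.Helper87.FSHyp.autGroup_decomp F hfa γ hγ
  obtain ⟨g, hg, hrg⟩ := (Cfsg.Agent.Lib.Helper87.FSBasic.mem_autInducedBy_iff r).1 hr
  have hgN : g ∈ Subgroup.normalizer (Q : Set Ω) :=
    Cfsg.Agent.Lib.Helper87.FSBasic.mem_normalizer_of_induces hrg
  have hrmem : r ∈ F.autGroup Q :=
    Cfsg.Agent.Lib.Helper87.FSBasic.autInducedBy_le_autGroup F hQS hr
  obtain ⟨c, hc⟩ : ∃ c : F.autGroup Q, c = ⟨r, hrmem⟩ := ⟨_, rfl⟩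
  have hcv : ∀ x : Q, (((c : MulAut Q) x : Q) : Ω) = g * (x : Ω) * g⁻¹ := by
    intro x
    rw [hc]
    exact hrg x
  have hm : c⁻¹ * n * c ∈ pResidual p (F.autGroup Q) := by
    have := Cfsg.Agent.Lib.Helper87.FSHyp.pResidual_conj_mem p hn c⁻¹
    rwa [inv_inv] at this
  refine ⟨δ ⟨g, hg⟩, c⁻¹ * n * c, ⟨g, hg⟩, hm, hgN, rfl, ?_⟩
  intro x
  have e2 : ((((c⁻¹ * n * c : F.autGroup Q) : MulAut Q) x : Q) : Ω)
      = g⁻¹ * (((n : MulAut Q) ((c : MulAut Q) x) : Q) : Ω) * g := by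
    have : ((c⁻¹ * n * c : F.autGroup Q) : MulAut Q) x
        = (c : MulAut Q)⁻¹ ((n : MulAut Q) ((c : MulAut Q) x)) := rfl
    rw [this]
    exact inv_apply_of_induces (c : MulAut Q) g hcv _
  rw [e2, hγr]
  have e3 : ((n : MulAut Q) * r) x = (n : MulAut Q) ((c : MulAut Q) x) := by
    rw [hc]
    rfl
  rw [e3]
  show _ = g * (g⁻¹ * _ * g) * g⁻¹
  group

end Cfsg.Agent.Lib.Helper59.PPLB
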