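import Mathlib
import Cfsg.Agent.Lib.Helper46.PUStmt

set_option autoImplicit false

namespace Cfsg.Agent.Lib.Helper59.PUBLOCK

open Matrix
open Cfsg.Agent.Lib.Helper40.HermAdj

universe u

theorem blk_pow {F : Type u} [Field F] {k m : ℕ} (A : Matrix (Fin k) (Fin k) F)
    (D : Matrix (Fin m) (Fin m) F) (j : ℕ) :
    (fromBlocks A 0 0 D) ^ j = fromBlocks (A ^ j) 0 0 (D ^ j) := by
  induction j with
  | zero => rw [pow_zero, pow_zero, pow_zero, fromBlocks_one]
  | succ j ih =>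
    rw [pow_succ, ih, fromBlocks_multiply, pow_succ, pow_succ]
    simp

theorem adj_blk {F : Type u} [Field F] (φ : F →+* F) {k m : ℕ} (A : Matrix (Fin k) (Fin k) F)
    (D : Matrix (Fin m) (Fin m) F) :
    adj φ (fromBlocks A 0 0 D) = fromBlocks (adj φ A) 0 0 (adj φ D) := by
  ext i j
  rcases i with i | i <;> rcases j with j | j <;> simp [adj_apply]

theorem main : Cfsg.Agent.Lib.Helper46.PUStmt.Block.{u} := by
  intro F _ φ k m n hn w v hw hv
  subst hn
  obtain ⟨ρ, hρ⟩ : ∃ ρ : Matrix (Fin k ⊕ Fin m) (Fin k ⊕ Fin m) F ≃ₐ[F]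
      Matrix (Fin (k + m)) (Fin (k + m)) F, ρ = Matrix.reindexAlgEquiv F F finSumFinEquiv :=
    ⟨_, rfl⟩
  have hρadj : ∀ M, adj φ (ρ M) = ρ (adj φ M) := by
    intro M
    rw [hρ]
    ext i j
    rfl
  refine ⟨ρ (fromBlocks w 0 0 v), ?_, ?_⟩
  · rw [hρadj, ← map_mul, adj_blk, fromBlocks_multiply, hw, hv]
    simp [fromBlocks_one]
  · intro j c
    have h1 : (c • (1 : Matrix (Fin (k + m)) (Fin (k + m)) F)) =
        ρ (fromBlocks (c • (1 : Matrix (Fin k) (Fin k) F)) 0 0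
          (c • (1 : Matrix (Fin m) (Fin m) F))) := by
      have h2 : fromBlocks (c • (1 : Matrix (Fin k) (Fin k) F)) 0 0
          (c • (1 : Matrix (Fin m) (Fin m) F)) = c • (1 : Matrix (Fin k ⊕ Fin m) (Fin k ⊕ Fin m) F) := by
        rw [← fromBlocks_one, fromBlocks_smul]
        simp
      rw [h2, map_smul, map_one]
    rw [← map_pow, blk_pow, h1, ρ.injective.eq_iff, fromBlocks_inj]
    constructor
    · rintro ⟨h3, -, -, h4⟩
      exact ⟨h3, h4⟩
    · rintro ⟨h3, h4⟩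
      exact ⟨h3, rfl, rfl, h4⟩

end Cfsg.Agent.Lib.Helper59.PUBLOCK
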