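import Mathlib
import Cfsg.Agent.Lib.Helper62.S57Stmt
import Cfsg.Agent.S1446
import Cfsg.Agent.Lib.Helper49.CoprimeDecomp

/-!
# S1357 / FROBMODP (helper62's call), second seat (helper59)

Copy-edit of the landed `Cfsg.Agent.Lib.Helper94.S56FROBMOD` (helper94): a Frobenius group `K R`
on an elementary abelian `q`-group `V` with prime action of `R`, `K` not centralizing `V`:
`|R|` is prime (first clause of S1446 applied to `[V, K]`).
-/

set_option autoImplicit false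

universe u

namespace Cfsg.Agent.Lib.Helper59.S57FROBMODP

open scoped commutatorElement

theorem norm_comm {Y : Type u} [Group Y] (V K : Subgroup Y) (g : Y)
    (hV : g ∈ Subgroup.normalizer (V : Set Y)) (hK : g ∈ Subgroup.normalizer (K : Set Y)) :
    g ∈ Subgroup.normalizer ((⁅V, K⁆ : Subgroup Y) : Set Y) := by
  rw [Subgroup.mem_normalizer_iff_map_conj_eq] at hV hK ⊢
  rw [Subgroup.map_commutator, hV, hK]

theorem main : Cfsg.Agent.Lib.Helper62.S57Stmt.FrobModP.{u} := by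
  intro Y _ _ V K R q _ hVab hVq hKV hRV hRK hR1 hfrob hsolv hodd hcop hpr _hcyc hnc
  classical
  have hK1 : K ≠ ⊥ := by
    intro hK1
    apply hnc
    rw [hK1]
    exact bot_le
  have hWV : ⁅V, K⁆ ≤ V := by
    rw [Subgroup.commutator_le]
    intro v hv k hk
    have h1 : k * v⁻¹ * k⁻¹ ∈ V :=
      (Subgroup.mem_normalizer_iff.mp (hKV hk) v⁻¹).mp (V.inv_mem hv)
    have h2 : ⁅v, k⁆ = v * (k * v⁻¹ * k⁻¹) := by
      rw [commutatorElement_def]
      group
    rw [h2]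
    exact V.mul_mem hv h1
  have hW : ⁅V, K⁆ ≠ ⊥ := by
    intro hW
    apply hnc
    have h1 : V ≤ Subgroup.centralizer (K : Set Y) :=
      Subgroup.commutator_eq_bot_iff_le_centralizer.mp hW
    intro k hk
    rw [Subgroup.mem_centralizer_iff]
    intro v hv
    exact (Subgroup.mem_centralizer_iff.mp (h1 hv) k hk).symm
  have hcopK : (Nat.card ↥K).Coprime q :=
    Nat.Coprime.coprime_dvd_left (Subgroup.card_dvd_of_le le_sup_left) hcop
  obtain ⟨hd1, _hd2⟩ := Cfsg.Agent.Lib.Helper49.CoprimeDecomp.coprime_decomp hVab hVq hKV hcopK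
  have hKR : K ⊓ R = ⊥ := by
    rw [eq_bot_iff]
    rintro x ⟨hxK, hxR⟩
    rw [Subgroup.mem_bot]
    by_contra hx1
    have h := hfrob x hxR hx1
    have hxc : x ∈ Subgroup.centralizer ({x} : Set Y) := by
      rw [Subgroup.mem_centralizer_iff]
      intro h hh
      rw [Set.mem_singleton_iff] at hh
      rw [hh]
    have hx : x ∈ K ⊓ Subgroup.centralizer ({x} : Set Y) := Subgroup.mem_inf.mpr ⟨hxK, hxc⟩
    rw [h, Subgroup.mem_bot] at hx
    exact hx1 hx
  have hWnil : Group.IsNilpotent ↥(⁅V, K⁆ : Subgroup Y) := by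
    let _ : CommGroup ↥(⁅V, K⁆ : Subgroup Y) :=
      { (inferInstance : Group ↥(⁅V, K⁆ : Subgroup Y)) with
        mul_comm := fun a b => Subtype.ext (hVab a (hWV a.2) b (hWV b.2)) }
    exact CommGroup.isNilpotent
  have hKW : K ≤ Subgroup.normalizer ((⁅V, K⁆ : Subgroup Y) : Set Y) := fun k hk =>
    norm_comm V K k (hKV hk) (Subgroup.le_normalizer hk)
  have hRW : R ≤ Subgroup.normalizer ((⁅V, K⁆ : Subgroup Y) : Set Y) := fun r hr =>
    norm_comm V K r (hRV hr) (hRK hr)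
  have hVp : IsPGroup q ↥V := by
    intro g
    refine ⟨1, ?_⟩
    rw [pow_one]
    exact Subtype.ext ((Subgroup.coe_pow V g q).trans (hVq g g.2))
  have hWp : IsPGroup q ↥(⁅V, K⁆ : Subgroup Y) := hVp.to_le hWV
  obtain ⟨n, hn⟩ := IsPGroup.iff_card.mp hWp
  have hcopW : (Nat.card ↥(K ⊔ R)).Coprime (Nat.card ↥(⁅V, K⁆ : Subgroup Y)) := by
    rw [hn]
    exact Nat.Coprime.pow_right n hcop
  have hCK : ⁅V, K⁆ ⊓ Subgroup.centralizer (K : Set Y) = ⊥ := by
    rw [eq_bot_iff, ← hd1]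
    rintro x ⟨hx1, hx2⟩
    exact ⟨⟨hWV hx1, hx2⟩, hx1⟩
  have hprW : ∀ x ∈ R, x ≠ 1 → ⁅V, K⁆ ⊓ Subgroup.centralizer ({x} : Set Y) =
      ⁅V, K⁆ ⊓ Subgroup.centralizer (R : Set Y) := by
    intro x hx hx1
    have e : ∀ C : Subgroup Y, ⁅V, K⁆ ⊓ C = ⁅V, K⁆ ⊓ (V ⊓ C) := by
      intro C
      rw [← inf_assoc, inf_eq_left.mpr hWV]
    rw [e, hpr x hx hx1, ← e]
  exact (Cfsg.Agent.S1446.result K R ⁅V, K⁆ hK1 hR1 hKR hRK hfrob hsolv hodd hW hWnil
    hKW hRW hcopW hCK hprW).1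

end Cfsg.Agent.Lib.Helper59.S57FROBMODP
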