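import Mathlib
import Cfsg.Prelude.Def_OddOrderLocal

/-!
# S1382 / SELFN (helper49's call): the pure part (helper59)

`selfN_of`: two cyclic subgroups `A`, `B` of coprime orders commuting elementwise, with
`(A ⊔ B) \ (A ∪ B)` a TI-subset whose normalizer is `A ⊔ B`, form a self-normalizing cyclic pair.
-/

set_option autoImplicit false

universe u

namespace Cfsg.Agent.Lib.Helper59.S82Pure

theorem sup_eq_zpowers {G : Type u} [Group G] [Finite G] (A B : Subgroup G) (hA : IsCyclic ↥A)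
    (hB : IsCyclic ↥B) (hcop : (Nat.card ↥A).Coprime (Nat.card ↥B))
    (hcomm : ∀ a ∈ A, ∀ b ∈ B, a * b = b * a) :
    ∃ z : G, A ⊔ B = Subgroup.zpowers z := by
  obtain ⟨a, ha⟩ := hA.exists_generator
  obtain ⟨b, hb⟩ := hB.exists_generator
  have hab : Commute (a : G) (b : G) := hcomm a a.2 b b.2
  have hoa : orderOf (a : G) ∣ Nat.card ↥A := by
    rw [Subgroup.orderOf_coe]
    exact orderOf_dvd_natCard a
  have hob : orderOf (b : G) ∣ Nat.card ↥B := by
    rw [Subgroup.orderOf_coe]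
    exact orderOf_dvd_natCard b
  have ha1 : (a : G) ^ Nat.card ↥A = 1 := by
    have h2 : a ^ Nat.card ↥A = 1 := pow_card_eq_one'
    have h3 : ((a ^ Nat.card ↥A : ↥A) : G) = 1 := by rw [h2]; rfl
    rw [Subgroup.coe_pow] at h3
    exact h3
  have hb1 : (b : G) ^ Nat.card ↥B = 1 := by
    have h2 : b ^ Nat.card ↥B = 1 := pow_card_eq_one'
    have h3 : ((b ^ Nat.card ↥B : ↥B) : G) = 1 := by rw [h2]; rfl
    rw [Subgroup.coe_pow] at h3
    exact h3
  have haz : (a : G) ∈ Subgroup.zpowers ((a : G) * (b : G)) := by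
    have h1 : ((a : G) * (b : G)) ^ Nat.card ↥B = (a : G) ^ Nat.card ↥B := by
      rw [hab.mul_pow, hb1, mul_one]
    obtain ⟨m, hm⟩ :=
      exists_pow_eq_self_of_coprime (Nat.Coprime.coprime_dvd_right hoa hcop.symm)
    have h5 : (((a : G) * (b : G)) ^ Nat.card ↥B) ^ m ∈ Subgroup.zpowers ((a : G) * (b : G)) :=
      Subgroup.pow_mem _ (Subgroup.pow_mem _ (Subgroup.mem_zpowers _) _) _
    rw [h1, hm] at h5
    exact h5
  have hbz : (b : G) ∈ Subgroup.zpowers ((a : G) * (b : G)) := by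
    have h1 : ((a : G) * (b : G)) ^ Nat.card ↥A = (b : G) ^ Nat.card ↥A := by
      rw [hab.mul_pow, ha1, one_mul]
    obtain ⟨m, hm⟩ :=
      exists_pow_eq_self_of_coprime (Nat.Coprime.coprime_dvd_right hob hcop)
    have h5 : (((a : G) * (b : G)) ^ Nat.card ↥A) ^ m ∈ Subgroup.zpowers ((a : G) * (b : G)) :=
      Subgroup.pow_mem _ (Subgroup.pow_mem _ (Subgroup.mem_zpowers _) _) _
    rw [h1, hm] at h5
    exact h5
  refine ⟨(a : G) * (b : G), le_antisymm (sup_le ?_ ?_) ?_⟩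
  · intro x hx
    obtain ⟨k, hk⟩ := Subgroup.mem_zpowers_iff.mp (ha ⟨x, hx⟩)
    have hxk : x = (a : G) ^ k := by
      have h3 : ((a ^ k : ↥A) : G) = x := by rw [hk]
      rw [← h3, Subgroup.coe_zpow]
    rw [hxk]
    exact Subgroup.zpow_mem _ haz k
  · intro x hx
    obtain ⟨k, hk⟩ := Subgroup.mem_zpowers_iff.mp (hb ⟨x, hx⟩)
    have hxk : x = (b : G) ^ k := by
      have h3 : ((b ^ k : ↥B) : G) = x := by rw [hk]
      rw [← h3, Subgroup.coe_zpow]
    rw [hxk]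
    exact Subgroup.zpow_mem _ hbz k
  · rw [Subgroup.zpowers_le]
    exact Subgroup.mul_mem_sup a.2 b.2

theorem norm_eq {G : Type u} [Group G] (Z : Subgroup G) (T : Set G)
    (hZc : ∀ a ∈ Z, ∀ b ∈ Z, a * b = b * a) (hTZ : T ⊆ (Z : Set G)) (h1 : (1 : G) ∉ T)
    (hTI : Cfsg.IsTISubset T) (hN : Subgroup.normalizer T = Z)
    (X : Set G) (hX : X ⊆ T) (hne : X.Nonempty) : Subgroup.normalizer X = Z := by
  apply le_antisymm
  · intro g hg
    obtain ⟨x, hx⟩ := hne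
    by_contra hgZ
    rw [← hN] at hgZ
    have hg' : ∀ n, n ∈ X ↔ g * n * g⁻¹ ∈ X := hg
    have h2 : g * x * g⁻¹ ∈ X := (hg' x).mp hx
    have h3 := hTI g hgZ x (hX hx) (hX h2)
    rw [h3] at hx
    exact h1 (hX hx)
  · intro g hg
    show ∀ n, n ∈ X ↔ g * n * g⁻¹ ∈ X
    intro n
    constructor
    · intro hn
      have h3 : g * n * g⁻¹ = n := by
        rw [hZc g hg n (hTZ (hX hn)), mul_assoc, mul_inv_cancel, mul_one]
      rw [h3]; exact hn
    · intro hn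
      have hc := hZc g hg (g * n * g⁻¹) (hTZ (hX hn))
      have h3 : g * n * g⁻¹ = n := by
        have h4 : g * (g * n * g⁻¹) = g * n := by rw [hc]; group
        exact mul_left_cancel h4
      rw [h3] at hn; exact hn

theorem selfN_of {G : Type u} [Group G] [Finite G] (A B : Subgroup G) (hA1 : A ≠ ⊥) (hB1 : B ≠ ⊥)
    (hA : IsCyclic ↥A) (hB : IsCyclic ↥B) (hcop : (Nat.card ↥A).Coprime (Nat.card ↥B))
    (hcomm : ∀ a ∈ A, ∀ b ∈ B, a * b = b * a)
    (hTI : Cfsg.IsTISubset ((↑(A ⊔ B) : Set G) \ ((A : Set G) ∪ ↑B)))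
    (hN : Subgroup.normalizer ((↑(A ⊔ B) : Set G) \ ((A : Set G) ∪ ↑B)) = A ⊔ B) :
    Cfsg.IsSelfNormalizingCyclic A B := by
  obtain ⟨z, hz⟩ := sup_eq_zpowers A B hA hB hcop hcomm
  have hinf : A ⊓ B = ⊥ := by
    rw [eq_bot_iff]
    rintro x ⟨hxA, hxB⟩
    rw [Subgroup.mem_bot]
    have h1 : orderOf x ∣ Nat.card ↥A := by
      have h := orderOf_dvd_natCard (⟨x, hxA⟩ : ↥A)
      rw [← Subgroup.orderOf_coe] at h
      exact h
    have h2 : orderOf x ∣ Nat.card ↥B := by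
      have h := orderOf_dvd_natCard (⟨x, hxB⟩ : ↥B)
      rw [← Subgroup.orderOf_coe] at h
      exact h
    have h3 : orderOf x ∣ 1 := by
      have h := Nat.dvd_gcd h1 h2
      rw [Nat.Coprime.gcd_eq_one hcop] at h
      exact h
    exact orderOf_eq_one_iff.mp (Nat.dvd_one.mp h3)
  have hcyc : IsCyclic ↥(A ⊔ B) := by
    rw [hz]
    infer_instance
  have hZc : ∀ a ∈ A ⊔ B, ∀ b ∈ A ⊔ B, a * b = b * a := by
    intro a ha b hb
    rw [hz] at ha hb
    obtain ⟨i, rfl⟩ := Subgroup.mem_zpowers_iff.mp ha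
    obtain ⟨j, rfl⟩ := Subgroup.mem_zpowers_iff.mp hb
    rw [← zpow_add, ← zpow_add, add_comm]
  refine ⟨hA1, hB1, hinf, hcomm, hcyc, ?_⟩
  intro X hX hne
  refine norm_eq (A ⊔ B) _ hZc (fun x hx => hx.1) ?_ hTI hN X hX hne
  intro h
  exact h.2 (Or.inl A.one_mem)

end Cfsg.Agent.Lib.Helper59.S82Pure
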