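import Mathlib
import Cfsg.Agent.Lib.Helper40.SFStmt

set_option autoImplicit false

namespace Cfsg.Agent.Lib.Helper59.SFCOMMA

open Cfsg.Agent.Lib.Helper40.SFStmt

universe u

theorem main : CommA.{u} := by
  intro F L _ _ _ n τ s₁ s₂ e₁ e₂ κ H1 H2 H3 H4 H5 H6 H7 z
  obtain ⟨x, hx⟩ : ∃ x, x = (s₂ * s₁).symm z := ⟨_, rfl⟩
  have hz : z = s₂ (s₁ x) := by
    rw [hx]
    exact ((s₂ * s₁).apply_symm_apply z).symm
  have he : (s₁ * s₂ * (s₂ * s₁)⁻¹) z = s₁ (s₂ x) := by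
    rw [hx]
    rfl
  rw [he]
  have hy : s₂ (s₁ x) = s₁ x + s₂ x - x + (-(κ * ff τ x e₁)) • e₂ := by
    rw [← H2 x]
    abel
  have hy' : s₁ (s₂ x) = s₂ x + s₁ x - x + (κ * ff τ x e₂) • e₁ := by
    rw [← H1 x]
    abel
  have hzx : z = x + (s₁ x - x) + (s₂ x - x) + (-(κ * ff τ x e₁)) • e₂ := by
    rw [hz, hy]
    abel
  have hf1 : ff τ z e₁ = ff τ x e₁ := by
    rw [hzx, ff_add_left, ff_add_left, ff_add_left, H3, H4, ff_smul_left, H7]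
    ring
  have hf2 : ff τ z e₂ = ff τ x e₂ - κ * ff τ x e₁ := by
    rw [hzx, ff_add_left, ff_add_left, ff_add_left, H6, H5, ff_smul_left, ff_self]
    ring
  rw [ff_smul_right, hf1, hf2, hy', hz, hy]
  module

end Cfsg.Agent.Lib.Helper59.SFCOMMA
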