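import Cfsg.Agent.Lib.Helper56.TPStmt

set_option autoImplicit false

namespace Cfsg.Agent.Lib.Helper59.TPGLUE

universe u v

theorem main : Cfsg.Agent.Lib.Helper56.TPStmt.Glue.{u, v} := by
  classical
  intro G Ω _ _ h2c S K g z hK hz hgS hgiS hgK
  have hzc : ∀ b, b ∉ S → z • b ∉ S := by
    intro b hb hzb
    have h1 : z⁻¹ • (z • b) = z • b := hK _ (K.inv_mem hz) _ hzb
    rw [inv_smul_smul] at h1
    exact hb (h1 ▸ hzb)
  have hzic : ∀ b, b ∉ S → z⁻¹ • b ∉ S := by
    intro b hb hzb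
    have h1 : z • (z⁻¹ • b) = z⁻¹ • b := hK _ hz _ hzb
    rw [smul_inv_smul] at h1
    exact hb (h1 ▸ hzb)
  let σ : Equiv.Perm Ω :=
    { toFun := fun a => if a ∈ S then g • a else z • a
      invFun := fun a => if a ∈ S then g⁻¹ • a else z⁻¹ • a
      left_inv := by
        intro a
        by_cases ha : a ∈ S
        · simp only [if_pos ha, if_pos (hgS a ha), inv_smul_smul]
        · simp only [if_neg ha, if_neg (hzc a ha), inv_smul_smul]
      right_inv := by
        intro a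
        by_cases ha : a ∈ S
        · simp only [if_pos ha, if_pos (hgiS a ha), smul_inv_smul]
        · simp only [if_neg ha, if_neg (hzic a ha), smul_inv_smul] }
  have hσS : ∀ a ∈ S, σ a = g • a := fun a ha => if_pos ha
  have hσc : ∀ a, a ∉ S → σ a = z • a := fun a ha => if_neg ha
  -- mixed pairs
  have hmix : ∀ a ∈ S, ∀ b, b ∉ S → ∃ x : G, x • a = g • a ∧ x • b = z • b := by
    intro a ha b hb
    have hb' : g⁻¹ • (z • b) ∉ S := by
      intro hh
      have := hgS _ hh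
      rw [smul_inv_smul] at this
      exact hzc b hb this
    obtain ⟨κ, hκ, hκe⟩ := hgK _ hb'
    rw [smul_inv_smul] at hκe
    refine ⟨g * (κ⁻¹ * z), ?_, ?_⟩
    · rw [mul_smul, mul_smul, hK z hz a ha, hK _ (K.inv_mem hκ) a ha]
    · rw [mul_smul, mul_smul]
      have : κ⁻¹ • z • b = g⁻¹ • z • b := by
        rw [inv_smul_eq_iff]
        exact hκe
      rw [this, smul_inv_smul]
  obtain ⟨h, hh⟩ := h2c σ (by
    intro a b
    by_cases ha : a ∈ S <;> by_cases hb : b ∈ S
    · exact ⟨g, hσS a ha, hσS b hb⟩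
    · obtain ⟨x, hx1, hx2⟩ := hmix a ha b hb
      exact ⟨x, (hσS a ha).trans hx1.symm, (hσc b hb).trans hx2.symm⟩
    · obtain ⟨x, hx1, hx2⟩ := hmix b hb a ha
      exact ⟨x, (hσc a ha).trans hx2.symm, (hσS b hb).trans hx1.symm⟩
    · exact ⟨z, hσc a ha, hσc b hb⟩)
  exact ⟨h, fun a ha => (hh a).symm.trans (hσS a ha), fun b hb => (hh b).symm.trans (hσc b hb)⟩

end Cfsg.Agent.Lib.Helper59.TPGLUE
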